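import Mathlib

/-!
# Farkas' lemma and separation from a finite convex hull over an ordered field
-/

set_option autoImplicit false

namespace Groth.Agent.RootChLib

variable {R V κ : Type*} [Field R] [LinearOrder R] [IsStrictOrderedRing R]
  [AddCommGroup V] [Module R V]

/-- Farkas' lemma: a vector outside a finitely generated cone is separated from it. -/
theorem farkas (s : Finset κ) : ∀ (v : κ → V) (x : V),
    (∀ c : κ → R, (∀ k ∈ s, 0 ≤ c k) → ∑ k ∈ s, c k • v k ≠ x) →
      ∃ f : Module.Dual R V, (∀ k ∈ s, 0 ≤ f (v k)) ∧ f x < 0 := by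
  classical
  induction s using Finset.induction with
  | empty =>
    intro v x h
    have hx : x ≠ 0 := fun e => h 0 (by simp) (by simp [e])
    obtain ⟨f, hf⟩ : ∃ f : Module.Dual R V, f x ≠ 0 := by
      by_contra! hall
      exact hx ((Module.forall_dual_apply_eq_zero_iff R x).mp hall)
    refine ⟨(-(f x)) • f, by simp, ?_⟩
    simp only [LinearMap.smul_apply, smul_eq_mul, neg_mul, neg_neg_iff_pos]
    exact mul_self_pos.mpr hf
  | @insert a s ha ih =>
    intro v x h
    obtain ⟨f, hf, hfx⟩ := ih v x fun c hc e => h (fun k => if k = a then 0 else c k)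
      (fun k hk => by
        rcases Finset.mem_insert.mp hk with rfl | hk'
        · simp
        · rw [if_neg (fun e => ha (by rwa [e] at hk'))]; exact hc k hk')
      (by
        rw [Finset.sum_insert ha, if_pos rfl, zero_smul, zero_add, ← e]
        exact Finset.sum_congr rfl fun k hk => by rw [if_neg (fun e => ha (by rwa [e] at hk))])
    rcases le_or_gt 0 (f (v a)) with hfa | hfa
    · refine ⟨f, fun k hk => ?_, hfx⟩
      rcases Finset.mem_insert.mp hk with rfl | hk'
      exacts [hfa, hf k hk']
    · let π : V →ₗ[R] V := LinearMap.id - (f.smulRight ((f (v a))⁻¹ • v a))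
      have hπ : ∀ y, π y = y - (f y / f (v a)) • v a := fun y => by
        simp [π, smul_smul, div_eq_mul_inv]
      obtain ⟨g, hg, hgx⟩ := ih (π ∘ v) (π x) fun c hc e => by
        set t := (f x - ∑ k ∈ s, c k * f (v k)) / f (v a) with ht
        have h0 : 0 ≤ ∑ k ∈ s, c k * f (v k) :=
          Finset.sum_nonneg fun k hk => mul_nonneg (hc k hk) (hf k hk)
        have ht0 : 0 ≤ t := div_nonneg_of_nonpos (by linarith) hfa.le
        refine h (fun k => if k = a then t else c k) (fun k hk => ?_) ?_
        · rcases Finset.mem_insert.mp hk with rfl | hk'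
          · simpa using ht0
          · rw [if_neg (fun e => ha (by rwa [e] at hk'))]; exact hc k hk'
        · rw [Finset.sum_insert ha, if_pos rfl, Finset.sum_congr rfl
            (g := fun k => c k • v k) fun k hk => by rw [if_neg (fun e => ha (by rwa [e] at hk))]]
          simp only [Function.comp_apply, hπ, smul_sub, Finset.sum_sub_distrib, smul_smul,
            ← Finset.sum_smul] at e
          have e2 : ∑ k ∈ s, c k * (f (v k) / f (v a)) = (∑ k ∈ s, c k * f (v k)) / f (v a) := by
            rw [Finset.sum_div]; exact Finset.sum_congr rfl fun k _ => by rw [mul_div_assoc]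
          rw [e2] at e
          rw [ht, sub_div, sub_smul]
          linear_combination (norm := module) e
      refine ⟨g.comp π, fun k hk => ?_, hgx⟩
      rcases Finset.mem_insert.mp hk with rfl | hk'
      · simp [hπ, hfa.ne]
      · exact hg k hk'

/-- A point outside the convex hull of a finite family is separated from it. -/
theorem exists_sep [Fintype κ] (v : κ → V) (x : V) (hx : x ∉ convexHull R (Set.range v)) :
    ∃ f : Module.Dual R V, ∀ k, f x < f (v k) := by
  classical
  obtain ⟨F, hF, hFx⟩ := farkas (R := R) Finset.univ (fun k => (v k, (1 : R))) (x, 1)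
    fun c hc e => hx (by
      have e1 := congrArg Prod.fst e
      have e2 := congrArg Prod.snd e
      simp only [Prod.smul_mk, smul_eq_mul, mul_one, Prod.fst_sum, Prod.snd_sum] at e1 e2
      rw [← e1]
      exact (convex_convexHull R _).sum_mem hc e2 fun k _ => subset_convexHull R _ ⟨k, rfl⟩)
  refine ⟨F.comp (LinearMap.inl R V R), fun k => ?_⟩
  have h1 := hF k (Finset.mem_univ k)
  have h2 : ∀ y : V, F (y, (1 : R)) = F.comp (LinearMap.inl R V R) y + F (0, 1) := fun y => by
    rw [LinearMap.comp_apply, LinearMap.inl_apply, ← map_add, Prod.mk_add_mk, add_zero, zero_add]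
  rw [h2] at h1 hFx
  linarith

end Groth.Agent.RootChLib
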