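import Groth.Agent.RootChLib.Facets

/-!
# Corners and parabolic sets of facets
-/

set_option autoImplicit false
set_option linter.unusedSectionVars false

universe u v w x

open RootPairing Set

namespace Groth.Agent.RootChLib

variable {ι : Type u} {R : Type v} {M : Type w} {N : Type x}
variable [Field R] [LinearOrder R] [IsStrictOrderedRing R]
variable [AddCommGroup M] [Module R M] [AddCommGroup N] [Module R N] [Finite ι]
variable {P : RootPairing ι R M N} [P.IsRootSystem] [P.IsCrystallographic] [P.IsReduced]
variable {F G : RootCh.Facet P} {b : P.Base}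

theorem linearIndepOn_corners (F : RootCh.Facet P) :
    LinearIndepOn R (fun m : M => m) F.corners := by
  obtain ⟨b, hb⟩ := cham_nonempty F
  rw [corners_eq hb]
  have h : LinearIndependent R (RootCh.fundWeight b) := by
    classical
    rw [Fintype.linearIndependent_iff]
    intro g hg i
    have := congrArg (P.coroot' (i : ι)) hg
    rw [map_sum, map_zero, Finset.sum_eq_single i] at this
    · rwa [map_smul, smul_eq_mul, RootCh.coroot'_fundWeight_self, mul_one] at this
    · intro l _ hl
      rw [map_smul, smul_eq_mul, RootCh.coroot'_fundWeight_of_ne b l i hl.symm, mul_zero]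
    · simp
  exact h.linearIndepOn_id.mono (Set.image_subset_range _ _)

theorem carrier_subset_span_corners (F : RootCh.Facet P) :
    F.carrier ⊆ (Submodule.span R F.corners : Set M) := by
  obtain ⟨b, hb⟩ := cham_nonempty F
  intro η hη
  rw [← sum_fundWeight b η, corners_eq hb]
  refine Submodule.sum_mem _ fun l _ => ?_
  by_cases hl : l ∈ supp F b
  · exact Submodule.smul_mem _ _ (Submodule.subset_span ⟨l, hl, rfl⟩)
  · rw [((mem_carrier_iff hb).mp hη l).2 hl, zero_smul]; exact zero_mem _

theorem span_carrier_eq (F : RootCh.Facet P) :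
    Submodule.span R F.carrier = Submodule.span R F.corners := by
  classical
  obtain ⟨b, hb⟩ := cham_nonempty F
  refine le_antisymm (Submodule.span_le.mpr (carrier_subset_span_corners F)) ?_
  rw [Submodule.span_le, corners_eq hb]
  rintro _ ⟨j, hj, rfl⟩
  obtain ⟨η, hη⟩ := carrier_nonempty F
  have hη' : η + RootCh.fundWeight b j ∈ F.carrier := by
    refine (mem_carrier_iff hb).mpr fun l => ?_
    rw [map_add, coroot'_fundWeight]
    refine ⟨fun hl => ?_, fun hl => ?_⟩
    · have := ((mem_carrier_iff hb).mp hη l).1 hl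
      split_ifs <;> linarith
    · rw [((mem_carrier_iff hb).mp hη l).2 hl, if_neg, add_zero]
      rintro rfl; exact hl hj
  simpa using Submodule.sub_mem _ (Submodule.subset_span hη') (Submodule.subset_span hη)

theorem eq_of_corners_eq (h : F.corners = G.corners) : F = G := by
  classical
  obtain ⟨b, hb⟩ := cham_nonempty F
  have hbG : b ∈ G.cham := by
    obtain ⟨c, hc⟩ := cham_nonempty G
    intro η hη k hk
    rw [← sum_fundWeight c η, map_sum]
    refine Finset.sum_nonneg fun l _ => ?_
    rw [map_smul, smul_eq_mul]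
    by_cases hl : l ∈ supp G c
    · have hmem : RootCh.fundWeight c l ∈ F.corners := by
        rw [h, corners_eq hc]; exact ⟨l, hl, rfl⟩
      exact mul_nonneg (((mem_carrier_iff hc).mp hη l).1 hl).le
        (closure_subset_closedChamber hb hmem.2 k hk)
    · rw [((mem_carrier_iff hc).mp hη l).2 hl, zero_mul]
  refine eq_of_supp_eq hb hbG (Finset.coe_injective ?_)
  apply (fundWeight_injective b).image_injective
  rw [← corners_eq hb, ← corners_eq hbG, h]

theorem carrier_eq_pos_comb (F : RootCh.Facet P) :
    F.carrier = {ξ : M | ∃ c : M →₀ R, (c.support : Set M) ⊆ F.corners ∧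
      (∀ m ∈ F.corners, 0 < c m) ∧ c.sum (fun m r => r • m) = ξ} := by
  classical
  obtain ⟨b, hb⟩ := cham_nonempty F
  ext η
  constructor
  · intro hη
    let a : b.support →₀ R := Finsupp.equivFunOnFinite.symm fun l => P.coroot' (l : ι) η
    refine ⟨a.mapDomain (RootCh.fundWeight b), ?_, ?_, ?_⟩
    · intro m hm
      obtain ⟨l, hl, rfl⟩ := Finset.mem_image.mp (Finsupp.mapDomain_support hm)
      rw [Finsupp.mem_support_iff] at hl
      rw [corners_eq hb]
      exact ⟨l, by_contra fun hn => hl (((mem_carrier_iff hb).mp hη l).2 hn), rfl⟩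
    · rw [corners_eq hb]
      rintro _ ⟨l, hl, rfl⟩
      rw [Finsupp.mapDomain_apply (fundWeight_injective b)]
      exact ((mem_carrier_iff hb).mp hη l).1 hl
    · rw [Finsupp.sum_mapDomain_index (by simp) (fun _ _ _ => add_smul _ _ _),
        Finsupp.sum_fintype _ _ (by simp)]
      exact sum_fundWeight b η
  · rintro ⟨c, hcs, hcp, rfl⟩
    refine (mem_carrier_iff hb).mpr fun l => ?_
    have key : P.coroot' (l : ι) (c.sum fun m r => r • m) =
        if l ∈ supp F b then c (RootCh.fundWeight b l) else 0 := by
      rw [map_finsuppSum]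
      simp only [map_smul, smul_eq_mul]
      rw [Finsupp.sum_of_support_subset c (s := (supp F b).image (RootCh.fundWeight b))
        (by rw [← Finset.coe_subset, Finset.coe_image, ← corners_eq hb]; exact hcs) _ (by simp),
        Finset.sum_image (fundWeight_injective b).injOn]
      simp only [coroot'_fundWeight, mul_ite, mul_one, mul_zero, Finset.sum_ite_eq]
    rw [key]
    refine ⟨fun hl => ?_, fun hl => if_neg hl⟩
    rw [if_pos hl]
    exact hcp _ (by rw [corners_eq hb]; exact ⟨l, hl, rfl⟩)

theorem dualCorners_eq_corr (F : RootCh.Facet P) :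
    F.dualCorners = {y : N | ∃ m ∈ F.corners, RootCh.Corr P m y} := by
  obtain ⟨b, hb⟩ := cham_nonempty F
  rw [dualCorners_eq hb, corners_eq hb]
  ext y
  constructor
  · rintro ⟨j, hj, rfl⟩
    exact ⟨_, ⟨j, hj, rfl⟩, (corr_fundWeight_iff b j).mpr rfl⟩
  · rintro ⟨_, ⟨j, hj, rfl⟩, h⟩
    exact ⟨j, hj, ((corr_fundWeight_iff b j).mp h).symm⟩

theorem corners_eq_nonneg_on_parab (F : RootCh.Facet P) :
    F.corners = {m : M | m ∈ RootCh.fundWeights P ∧
      ∀ y : N, RootCh.Corr P m y → ∀ i ∈ F.parab, 0 ≤ P.root' i y} := by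
  classical
  obtain ⟨b, hb⟩ := cham_nonempty F
  ext m
  constructor
  · intro hm
    refine ⟨hm.1, ?_⟩
    rw [corners_eq hb] at hm
    obtain ⟨j, hj, rfl⟩ := hm
    intro y hy i hi
    rw [(corr_fundWeight_iff b j).mp hy]
    change 0 ≤ coef b i j
    rcases eq_or_pos_neg b i with hk | hk
    · exact coef_nonneg b hk j
    · by_contra hlt
      have h1 : coef b (P.reflectionPerm i i) j ≠ 0 := by
        rw [coef_neg]; exact neg_ne_zero.mpr (not_le.mp hlt).ne
      have h2 := (sgn_eq_one_iff_of_isPos hb hk).mpr ⟨j, hj, h1⟩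
      rw [sgn_neg, neg_eq_iff_eq_neg] at h2
      exact hi h2
  · rintro ⟨⟨b', i, rfl⟩, h⟩
    have hy := h _ ((corr_fundWeight_iff b' i).mpr rfl)
    obtain ⟨ξ, hξ⟩ := carrier_nonempty F
    -- the coweight is dominant for `b`, hence so is the weight
    have hdom : RootCh.fundWeight b' i ∈ RootCh.closedChamber b := by
      obtain ⟨c, hc, hpol⟩ := pol_fundWeight b' i
      intro k hk
      rw [← root'_pol_nonneg_iff, hpol, map_smul, smul_eq_mul]
      exact mul_nonneg hc.le (hy k (pos_mem_parab hb (Base.isPos_of_mem_support hk)))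
    obtain ⟨j, hj, hj'⟩ := exists_fund_eq b b' i hdom
    rw [← hj]
    refine ⟨⟨b, j, rfl⟩, (fundWeight_mem_closure_iff hb).mpr (by_contra fun hn => ?_)⟩
    have hneg : P.reflectionPerm j j ∈ F.parab := by
      rw [RootCh.Facet.parab, Set.mem_ofPred, sgn_neg, sgn_of_notMem_supp hb hn]
      decide
    have := hy _ hneg
    rw [← hj', root'_neg, RootCh.root'_fundCoweight_self] at this
    linarith

theorem eq_of_parab_eq (h : F.parab = G.parab) : F = G := by
  ext i
  have h1 := Set.ext_iff.mp h i
  have h2 := Set.ext_iff.mp h (P.reflectionPerm i i)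
  simp only [RootCh.Facet.parab, Set.mem_ofPred, sgn_neg] at h1 h2
  revert h1 h2
  cases F.sgn i <;> cases G.sgn i <;> simp

theorem le_iff_parab_subset : F ≤ G ↔ F.parab ⊆ G.parab := by
  rw [RootCh.Facet.le_def]
  constructor
  · intro h i hi hG
    rcases h i with h0 | h0
    · rw [hG] at h0; exact absurd h0 (by decide)
    · exact hi (h0 ▸ hG)
  · intro h i
    have h1 := @h i
    have h2 := @h (P.reflectionPerm i i)
    simp only [RootCh.Facet.parab, Set.mem_ofPred, sgn_neg] at h1 h2
    revert h1 h2
    cases F.sgn i <;> cases G.sgn i <;> simp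

/-- A parabolic set of roots containing the positive roots of `b` is the parabolic set of a facet. -/
theorem exists_facet_parab_eq {S : Set ι} (hS : RootCh.IsParabolicSubset P S) :
    ∃ F : RootCh.Facet P, F.parab = S := by
  classical
  obtain ⟨b, hb⟩ := exists_base_pos_subset hS
  obtain ⟨F, hbF, hsupp⟩ :=
    exists_facet b (Finset.univ.filter fun j : b.support => P.reflectionPerm (j : ι) j ∉ S)
  refine ⟨F, ?_⟩
  have hΔ := RootSys.base_isSimpleSys b
  have key : ∀ k, b.IsPos k →
      (P.reflectionPerm k k ∈ S ↔ ∀ j ∈ supp F b, coef b k j = 0) := by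
    intro k hk
    rw [RootSys.base_isPos_iff] at hk
    refine RootSys.pos_induction hΔ
      (p := fun k => P.reflectionPerm k k ∈ S ↔ ∀ j ∈ supp F b, coef b k j = 0) ?_ ?_ hk
    · intro i hi
      constructor
      · intro hiS j hj
        show coef b ((⟨i, hi⟩ : b.support) : ι) j = 0
        rw [coef_simple, if_neg]
        rintro rfl
        rw [hsupp, Finset.mem_filter] at hj
        exact hj.2 hiS
      · intro h
        by_contra hiS
        have := h ⟨i, hi⟩ (by rw [hsupp]; simp [hiS])
        rw [show coef b i ⟨i, hi⟩ = 1 from RootCh.root'_fundCoweight_self b ⟨i, hi⟩] at this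
        exact one_ne_zero this
    · intro i j k hi hjpos he ih
      have hiP : i ∈ S := hb i (Base.isPos_of_mem_support hi)
      have hjP : j ∈ S := hb j ((RootSys.base_isPos_iff b j).mpr hjpos)
      have hjn := hjpos
      rw [← RootSys.base_isPos_iff] at hjn
      have hc : ∀ l : b.support, coef b k l = coef b j l + coef b i l := by
        intro l
        simp only [coef, root'_apply, he, map_add, LinearMap.add_apply]
      constructor
      · intro hkS l hl
        have h1 : P.reflectionPerm j j ∈ S := hS.1 _ i _ hkS hiP (by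
          rw [RootSys.root_neg, RootSys.root_neg, he]; abel)
        have h2 : P.reflectionPerm i i ∈ S := hS.1 _ j _ hkS hjP (by
          rw [RootSys.root_neg, RootSys.root_neg, he]; abel)
        have h3 : coef b i l = 0 := by
          show coef b ((⟨i, hi⟩ : b.support) : ι) l = 0
          rw [coef_simple, if_neg]
          rintro rfl
          rw [hsupp, Finset.mem_filter] at hl
          exact hl.2 h2
        rw [hc, ih.mp h1 l hl, h3, add_zero]
      · intro h
        have hboth : ∀ l ∈ supp F b, coef b j l = 0 ∧ coef b i l = 0 := by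
          intro l hl
          have h1 := h l hl
          rw [hc] at h1
          exact (add_eq_zero_iff_of_nonneg (coef_nonneg b hjn l)
            (coef_nonneg b (Base.isPos_of_mem_support hi) l)).mp h1
        have h1 := ih.mpr fun l hl => (hboth l hl).1
        have h2 : P.reflectionPerm i i ∈ S := by
          by_contra hiS
          have := (hboth ⟨i, hi⟩ (by rw [hsupp]; simp [hiS])).2
          rw [show coef b i ⟨i, hi⟩ = 1 from RootCh.root'_fundCoweight_self b ⟨i, hi⟩] at this
          exact one_ne_zero this
        exact hS.1 _ _ _ h1 h2 (by rw [RootSys.root_neg, RootSys.root_neg, RootSys.root_neg, he]; abel)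
  ext k
  rcases eq_or_pos_neg b k with hk | hk
  · exact iff_of_true (pos_mem_parab hbF hk) (hb k hk)
  · have h1 := key _ hk
    rw [show P.reflectionPerm (P.reflectionPerm k k) (P.reflectionPerm k k) = k from
      RootSys.neg_neg_index k] at h1
    rw [h1, ← sgn_eq_zero_iff_of_isPos hbF hk, RootCh.Facet.parab, Set.mem_ofPred]
    have h2 : F.sgn (P.reflectionPerm k k) ≠ -1 := pos_mem_parab hbF hk
    rw [sgn_neg] at h2 ⊢
    revert h2
    cases F.sgn k <;> simp

theorem exists_corners_eq_of_mem_cham (hb : b ∈ F.cham) (J : Finset b.support) :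
    ∃ G : RootCh.Facet P, G.corners = RootCh.fundWeight b '' (J : Set b.support) := by
  obtain ⟨G, hG, rfl⟩ := exists_facet b J
  exact ⟨G, corners_eq hG⟩

end Groth.Agent.RootChLib
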