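import Groth.Agent.RootChLib.Setup
import Groth.Agent.RootSys.Base

/-!
# Facets of a root system in coordinates of an adjacent chamber

For `b ∈ F.cham` the facet is determined by the set `J` of simple indices positive on it; its
corners are the fundamental weights `ω_j`, `j ∈ J`.
-/

set_option autoImplicit false
set_option linter.unusedSectionVars false

universe u v w x

open RootPairing Set

namespace Groth.Agent.RootChLib

variable {ι : Type u} {R : Type v} {M : Type w} {N : Type x}
variable [Field R] [LinearOrder R] [IsStrictOrderedRing R]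
variable [AddCommGroup M] [Module R M] [AddCommGroup N] [Module R N] [Finite ι]
variable {P : RootPairing ι R M N} [P.IsRootSystem] [P.IsCrystallographic] [P.IsReduced]

theorem base_ext {b b' : P.Base} (h : b.support = b'.support) : b = b' := by
  cases b; cases b'; simp at h; subst h; rfl

theorem eq_of_forall_isPos {b b' : P.Base} (h : ∀ k, b.IsPos k ↔ b'.IsPos k) : b = b' := by
  refine base_ext (Finset.coe_injective ?_)
  refine RootSys.eq_of_posOf_eq (RootSys.base_isSimpleSys b) (RootSys.base_isSimpleSys b') ?_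
  ext k
  rw [← RootSys.base_isPos_iff, ← RootSys.base_isPos_iff]
  exact h k

theorem exists_map_base (g : P.Aut) (b : P.Base) :
    ∃ b' : P.Base, (b'.support : Set ι) = (fun i : ι => g • i) '' (b.support : Set ι) ∧
      ∀ k, b'.IsPos (g • k) ↔ b.IsPos k := by
  have hs := RootSys.isSimpleSys_smul g (RootSys.base_isSimpleSys b)
  let b' : P.Base := Base.mk' P _ hs.linInd hs.mem_or_neg_mem
  have hsupp : (b'.support : Set ι) = (fun i : ι => g • i) '' (b.support : Set ι) :=
    Set.Finite.coe_toFinset _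
  refine ⟨b', hsupp, fun k => ?_⟩
  rw [RootSys.base_isPos_iff, RootSys.base_isPos_iff, hsupp]
  exact RootSys.smul_mem_posOf_image_iff g

/-- Closed subsets covering all roots up to sign contain the positive roots of some base. -/
theorem exists_base_pos_subset {S : Set ι} (hS : RootCh.IsParabolicSubset P S) :
    ∃ b : P.Base, ∀ k, b.IsPos k → k ∈ S := by
  obtain ⟨b₀⟩ := P.nonempty_base
  obtain ⟨g, -, hg⟩ := RootSys.exists_weyl_pos_subset (RootSys.base_isSimpleSys b₀) hS.2
    (fun i j k hi hj h => hS.1 i j k hi hj h)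
  obtain ⟨b, -, hb⟩ := exists_map_base g b₀
  refine ⟨b, fun k hk => hg ⟨g⁻¹ • k, ?_, smul_inv_smul g k⟩⟩
  rw [← RootSys.base_isPos_iff, ← hb, smul_inv_smul]
  exact hk

variable {F G : RootCh.Facet P}

theorem sgn_eq {ξ : M} (hξ : ξ ∈ F.carrier) (i : ι) :
    F.sgn i = SignType.sign (P.coroot' i ξ) :=
  (congrFun (Set.mem_ofPred.mp hξ) i).symm

theorem carrier_nonempty (F : RootCh.Facet P) : ∃ ξ, ξ ∈ F.carrier := F.exists_sgnVec_eq

theorem sgn_neg (F : RootCh.Facet P) (i : ι) : F.sgn (P.reflectionPerm i i) = -F.sgn i := by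
  obtain ⟨ξ, hξ⟩ := carrier_nonempty F
  rw [sgn_eq hξ, sgn_eq hξ, coroot'_neg, Left.sign_neg]

theorem mem_parab_iff {ξ : M} (hξ : ξ ∈ F.carrier) (i : ι) :
    i ∈ F.parab ↔ 0 ≤ P.coroot' i ξ := by
  rw [RootCh.Facet.parab, Set.mem_ofPred, sgn_eq hξ, Ne, sign_eq_neg_one_iff, not_lt]

theorem isParabolicSubset_parab (F : RootCh.Facet P) : RootCh.IsParabolicSubset P F.parab := by
  obtain ⟨ξ, hξ⟩ := carrier_nonempty F
  refine ⟨fun i j k hi hj h => ?_, fun i => ?_⟩
  · rw [mem_parab_iff hξ, ← root'_pol_nonneg_iff] at hi hj ⊢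
    rw [root'_apply, h, map_add, LinearMap.add_apply]
    exact add_nonneg hi hj
  · rw [mem_parab_iff hξ, mem_parab_iff hξ, coroot'_neg, neg_nonneg]
    exact le_total _ _

theorem mem_cham_iff (b : P.Base) : b ∈ F.cham ↔ ∀ i ∈ b.support, F.sgn i ≠ -1 := by
  constructor
  · intro h i hi
    obtain ⟨ξ, hξ⟩ := carrier_nonempty F
    exact (mem_parab_iff hξ i).mpr (h hξ i hi)
  · intro h ξ hξ i hi
    exact (mem_parab_iff hξ i).mp (h i hi)

theorem nonneg_of_mem_cham {b : P.Base} (hb : b ∈ F.cham) {ξ : M} (hξ : ξ ∈ F.carrier)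
    (i : b.support) : 0 ≤ P.coroot' i ξ := hb hξ i i.2

theorem pos_mem_parab {b : P.Base} (hb : b ∈ F.cham) {k : ι} (hk : b.IsPos k) : k ∈ F.parab := by
  obtain ⟨ξ, hξ⟩ := carrier_nonempty F
  exact (mem_parab_iff hξ k).mpr (coroot'_nonneg_of_isPos b (nonneg_of_mem_cham hb hξ) hk)

theorem cham_nonempty (F : RootCh.Facet P) : ∃ b, b ∈ F.cham := by
  obtain ⟨b, hb⟩ := exists_base_pos_subset (isParabolicSubset_parab F)
  exact ⟨b, (mem_cham_iff b).mpr fun i hi => hb i (Base.isPos_of_mem_support hi)⟩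

/-- The simple indices of `b` positive on `F`. -/
def supp (F : RootCh.Facet P) (b : P.Base) : Finset b.support :=
  Finset.univ.filter fun j => F.sgn j = 1

theorem mem_supp {b : P.Base} {j : b.support} : j ∈ supp F b ↔ F.sgn j = 1 := by simp [supp]

variable {b : P.Base}

theorem sgn_of_notMem_supp (hb : b ∈ F.cham) {j : b.support} (hj : j ∉ supp F b) :
    F.sgn j = 0 := by
  have h1 := (mem_cham_iff b).mp hb j j.2
  rw [mem_supp] at hj
  revert h1 hj
  cases F.sgn (j : ι) <;> simp

theorem sgn_eq_one_iff_of_isPos (hb : b ∈ F.cham) {k : ι} (hk : b.IsPos k) :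
    F.sgn k = 1 ↔ ∃ j ∈ supp F b, coef b k j ≠ 0 := by
  obtain ⟨ξ, hξ⟩ := carrier_nonempty F
  rw [sgn_eq hξ, sign_eq_one_iff, coroot'_pos_iff_of_isPos b (nonneg_of_mem_cham hb hξ) hk]
  constructor
  · rintro ⟨j, hc, hj⟩
    exact ⟨j, by rw [mem_supp, sgn_eq hξ, sign_eq_one_iff]; exact hj, hc⟩
  · rintro ⟨j, hj, hc⟩
    exact ⟨j, hc, by rwa [mem_supp, sgn_eq hξ, sign_eq_one_iff] at hj⟩

theorem sgn_eq_zero_iff_of_isPos (hb : b ∈ F.cham) {k : ι} (hk : b.IsPos k) :
    F.sgn k = 0 ↔ ∀ j ∈ supp F b, coef b k j = 0 := by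
  have h1 : F.sgn k ≠ -1 := pos_mem_parab hb hk
  have h2 := sgn_eq_one_iff_of_isPos hb hk
  constructor
  · intro h0 j hj
    by_contra hc
    rw [h2.mpr ⟨j, hj, hc⟩] at h0
    exact absurd h0 (by decide)
  · intro h
    have h3 : F.sgn k ≠ 1 := fun e => by obtain ⟨j, hj, hc⟩ := h2.mp e; exact hc (h j hj)
    revert h1 h3
    cases F.sgn k <;> simp

theorem eq_of_supp_eq (hF : b ∈ F.cham) (hG : b ∈ G.cham) (h : supp F b = supp G b) : F = G := by
  have key : ∀ k, b.IsPos k → F.sgn k = G.sgn k := by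
    intro k hk
    by_cases h1 : F.sgn k = 1
    · rw [h1, ((sgn_eq_one_iff_of_isPos hG hk).mpr (h ▸ (sgn_eq_one_iff_of_isPos hF hk).mp h1))]
    · have h2 : G.sgn k ≠ 1 := fun e =>
        h1 ((sgn_eq_one_iff_of_isPos hF hk).mpr (h ▸ (sgn_eq_one_iff_of_isPos hG hk).mp e))
      have h3 : F.sgn k ≠ -1 := pos_mem_parab hF hk
      have h4 : G.sgn k ≠ -1 := pos_mem_parab hG hk
      revert h1 h2 h3 h4
      cases F.sgn k <;> cases G.sgn k <;> simp
  ext k
  rcases eq_or_pos_neg b k with hk | hk
  · exact key k hk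
  · have := key _ hk
    rwa [sgn_neg, sgn_neg, neg_inj] at this

theorem mem_carrier_iff (hb : b ∈ F.cham) {η : M} :
    η ∈ F.carrier ↔ ∀ j : b.support,
      (j ∈ supp F b → 0 < P.coroot' j η) ∧ (j ∉ supp F b → P.coroot' j η = 0) := by
  constructor
  · intro hη j
    refine ⟨fun hj => ?_, fun hj => ?_⟩
    · rwa [mem_supp, sgn_eq hη, sign_eq_one_iff] at hj
    · rw [← sign_eq_zero_iff, ← sgn_eq hη]; exact sgn_of_notMem_supp hb hj
  · intro h
    have hnn : ∀ j : b.support, 0 ≤ P.coroot' j η := fun j => by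
      by_cases hj : j ∈ supp F b
      · exact ((h j).1 hj).le
      · exact ((h j).2 hj).ge
    have hη : η ∈ (RootCh.Facet.ofVec P η).carrier := rfl
    have hb' : b ∈ (RootCh.Facet.ofVec P η).cham :=
      (mem_cham_iff b).mpr fun i hi => (mem_parab_iff hη i).mpr (hnn ⟨i, hi⟩)
    have : supp (RootCh.Facet.ofVec P η) b = supp F b := by
      ext j
      rw [mem_supp, sgn_eq hη, sign_eq_one_iff]
      exact ⟨fun hj => by_contra fun hn => hj.ne' ((h j).2 hn), (h j).1⟩
    rw [← eq_of_supp_eq hb' hb this]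
    exact hη

theorem mem_closure_iff (hb : b ∈ F.cham) {η : M} :
    η ∈ F.closure ↔ ∀ j : b.support,
      0 ≤ P.coroot' j η ∧ (j ∉ supp F b → P.coroot' j η = 0) := by
  constructor
  · intro h j
    rcases h j with h0 | h0
    · rw [RootCh.sgnVec, sign_eq_zero_iff] at h0
      exact ⟨h0.ge, fun _ => h0⟩
    · refine ⟨?_, fun hj => ?_⟩
      · have h1 := (mem_cham_iff b).mp hb j j.2
        rw [← h0, RootCh.sgnVec, Ne, sign_eq_neg_one_iff, not_lt] at h1
        exact h1
      · rw [sgn_of_notMem_supp hb hj, RootCh.sgnVec, sign_eq_zero_iff] at h0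
        exact h0
  · intro h k
    have key : ∀ k, b.IsPos k →
        RootCh.sgnVec P η k = 0 ∨ RootCh.sgnVec P η k = F.sgn k := by
      intro k hk
      have h0 := coroot'_nonneg_of_isPos b (fun j => (h j).1) hk
      rcases h0.eq_or_lt with h1 | h1
      · exact Or.inl (by rw [RootCh.sgnVec, ← h1, sign_zero])
      · refine Or.inr ?_
        obtain ⟨j, hc, hj⟩ := (coroot'_pos_iff_of_isPos b (fun j => (h j).1) hk).mp h1
        rw [RootCh.sgnVec, sign_pos h1, (sgn_eq_one_iff_of_isPos hb hk).mpr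
          ⟨j, by_contra fun hn => hj.ne' ((h j).2 hn), hc⟩]
    rcases eq_or_pos_neg b k with hk | hk
    · exact key k hk
    · have hneg : RootCh.sgnVec P η (P.reflectionPerm k k) = -RootCh.sgnVec P η k := by
        rw [RootCh.sgnVec, RootCh.sgnVec, coroot'_neg, Left.sign_neg]
      have h1 := key _ hk
      rw [hneg, sgn_neg, neg_inj] at h1
      refine h1.imp_left fun h2 => ?_
      revert h2
      cases RootCh.sgnVec P η k <;> simp

theorem exists_pol_eq (b : P.Base) (y : N) : ∃ ξ : M, pol P ξ = y ∧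
    ∀ j : b.support, (0 < P.coroot' j ξ ↔ 0 < P.root' j y) ∧
      (P.coroot' j ξ = 0 ↔ P.root' j y = 0) ∧ (0 ≤ P.coroot' j ξ ↔ 0 ≤ P.root' j y) := by
  choose c hc hcω using fun j : b.support => pol_fundWeight b j
  refine ⟨∑ j : b.support, (P.root' j y / c j) • RootCh.fundWeight b j, ?_, fun j => ?_⟩
  · rw [map_sum]
    refine Eq.trans (Finset.sum_congr rfl fun j _ => ?_) (sum_fundCoweight b y)
    rw [map_smul, hcω, smul_smul, div_mul_cancel₀ _ (hc j).ne']
  · rw [map_sum, Finset.sum_eq_single j]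
    · rw [map_smul, smul_eq_mul, RootCh.coroot'_fundWeight_self, mul_one]
      exact ⟨div_pos_iff_of_pos_right (hc j), by simp [(hc j).ne'],
        ⟨fun h => by
          have := mul_nonneg h (hc j).le; rwa [div_mul_cancel₀ _ (hc j).ne'] at this,
          fun h => div_nonneg h (hc j).le⟩⟩
    · intro l _ hl
      rw [map_smul, smul_eq_mul, RootCh.coroot'_fundWeight_of_ne b l j hl.symm, mul_zero]
    · simp

theorem pol_mem_dualCarrier_iff {ξ : M} : pol P ξ ∈ F.dualCarrier ↔ ξ ∈ F.carrier := by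
  simp [RootCh.Facet.dualCarrier, RootCh.Facet.carrier, cosgnVec_pol]

theorem pol_mem_dualClosure_iff {ξ : M} : pol P ξ ∈ F.dualClosure ↔ ξ ∈ F.closure := by
  simp [RootCh.Facet.dualClosure, RootCh.Facet.closure, cosgnVec_pol]

theorem mem_dualCarrier_iff (hb : b ∈ F.cham) {y : N} :
    y ∈ F.dualCarrier ↔ ∀ j : b.support,
      (j ∈ supp F b → 0 < P.root' j y) ∧ (j ∉ supp F b → P.root' j y = 0) := by
  obtain ⟨ξ, rfl, h⟩ := exists_pol_eq b y
  rw [pol_mem_dualCarrier_iff, mem_carrier_iff hb]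
  exact forall_congr' fun j => and_congr (imp_congr_right fun _ => (h j).1)
    (imp_congr_right fun _ => (h j).2.1)

theorem mem_dualClosure_iff (hb : b ∈ F.cham) {y : N} :
    y ∈ F.dualClosure ↔ ∀ j : b.support,
      0 ≤ P.root' j y ∧ (j ∉ supp F b → P.root' j y = 0) := by
  obtain ⟨ξ, rfl, h⟩ := exists_pol_eq b y
  rw [pol_mem_dualClosure_iff, mem_closure_iff hb]
  exact forall_congr' fun j => and_congr (h j).2.2 (imp_congr_right fun _ => (h j).2.1)

theorem exists_int_coroot'_fundWeight (b' : P.Base) (i : b'.support) (k : ι) :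
    ∃ z : ℤ, P.coroot' k (RootCh.fundWeight b' i) = (z : R) := by
  classical
  suffices ∀ y ∈ Submodule.span ℤ (P.coroot '' b'.support),
      ∃ z : ℤ, P.toLinearMap (RootCh.fundWeight b' i) y = (z : R) from
    this _ (b'.coroot_mem_span_int k)
  intro y hy
  induction hy using Submodule.span_induction with
  | mem y hy =>
    obtain ⟨l, hl, rfl⟩ := hy
    refine ⟨if (⟨l, hl⟩ : b'.support) = i then 1 else 0, ?_⟩
    show P.coroot' ((⟨l, hl⟩ : b'.support) : ι) (RootCh.fundWeight b' i) = _
    rw [coroot'_fundWeight]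
    split_ifs <;> simp
  | zero => exact ⟨0, by simp⟩
  | add y z _ _ h1 h2 =>
    obtain ⟨z1, h1⟩ := h1
    obtain ⟨z2, h2⟩ := h2
    exact ⟨z1 + z2, by rw [map_add, h1, h2, Int.cast_add]⟩
  | smul a y _ h1 =>
    obtain ⟨z1, h1⟩ := h1
    exact ⟨a * z1, by rw [map_zsmul, h1, zsmul_eq_mul, Int.cast_mul]⟩

theorem eq_one_of_int {c c' : R} (hc : 0 < c) (h : c * c' = 1) (hz : ∃ z : ℤ, c = z)
    (hz' : ∃ z : ℤ, c' = z) : c = 1 := by
  obtain ⟨z, rfl⟩ := hz
  obtain ⟨z', rfl⟩ := hz'
  have h0 : 0 < z := by exact_mod_cast hc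
  have h1 : z * z' = 1 := by exact_mod_cast h
  rw [Int.eq_one_of_mul_eq_one_right h0.le h1, Int.cast_one]

theorem exists_int_coef (b : P.Base) (k : ι) (j : b.support) :
    ∃ z : ℤ, coef b k j = (z : R) := by
  obtain ⟨f, hf, -, -⟩ := exists_coef_int b k
  exact ⟨f j, hf j⟩

/-- A fundamental weight in the closed chamber of `b` is one of `b`, with the same coweight. -/
theorem exists_fund_eq (b b' : P.Base) (i : b'.support)
    (hw : RootCh.fundWeight b' i ∈ RootCh.closedChamber b) :
    ∃ j : b.support, RootCh.fundWeight b j = RootCh.fundWeight b' i ∧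
      RootCh.fundCoweight b j = RootCh.fundCoweight b' i := by
  classical
  set w := RootCh.fundWeight b' i with hwdef
  set G := RootCh.Facet.ofVec P w
  have hwG : w ∈ G.carrier := rfl
  have hbG : b ∈ G.cham := (mem_cham_iff b).mpr fun k hk => (mem_parab_iff hwG k).mpr (hw k hk)
  have hb'G : b' ∈ G.cham := (mem_cham_iff b').mpr fun k hk => (mem_parab_iff hwG k).mpr (by
    show 0 ≤ P.coroot' ((⟨k, hk⟩ : b'.support) : ι) w
    rw [hwdef, coroot'_fundWeight]
    split_ifs <;> simp)
  have hsupp' : supp G b' = {i} := by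
    ext l
    rw [mem_supp, sgn_eq hwG, sign_eq_one_iff, Finset.mem_singleton, hwdef, coroot'_fundWeight]
    split_ifs with h <;> simp [h]
  -- the facet is the ray through `w`
  have hray : ∀ η ∈ G.carrier, η = P.coroot' i η • w := by
    intro η hη
    conv_lhs => rw [← sum_fundWeight b' η]
    refine Finset.sum_eq_single i (fun l _ hl => ?_) (by simp)
    rw [((mem_carrier_iff hb'G).mp hη l).2 (by simp [hsupp', hl]), zero_smul]
  obtain ⟨j, hj⟩ : ∃ j, j ∈ supp G b := by
    by_contra! hne
    have h1 := ((mem_carrier_iff hb'G).mp hwG i).1 (by simp [hsupp'])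
    have : w = 0 := ext_coroot' b fun l => by
      rw [map_zero]; exact ((mem_carrier_iff hbG).mp hwG l).2 (hne l)
    rw [this, map_zero] at h1
    exact lt_irrefl _ h1
  have huniq : ∀ l ∈ supp G b, l = j := by
    intro l hl
    by_contra hlj
    have h0 := (mem_carrier_iff hbG).mp hwG
    have hη : w + RootCh.fundWeight b j ∈ G.carrier := by
      refine (mem_carrier_iff hbG).mpr fun m => ⟨fun hm => ?_, fun hm => ?_⟩
      · rw [map_add, coroot'_fundWeight]
        have := (h0 m).1 hm
        split_ifs <;> linarith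
      · rw [map_add, (h0 m).2 hm, RootCh.coroot'_fundWeight_of_ne b j m (fun e => hm (e ▸ hj)),
          add_zero]
    have h1 := hray _ hη
    set t := P.coroot' i (w + RootCh.fundWeight b j)
    have hl' := congrArg (P.coroot' (l : ι)) h1
    have hj' := congrArg (P.coroot' (j : ι)) h1
    rw [map_add, map_smul, RootCh.coroot'_fundWeight_of_ne b j l hlj, add_zero, smul_eq_mul] at hl'
    rw [map_add, map_smul, RootCh.coroot'_fundWeight_self, smul_eq_mul] at hj'
    have hlpos := (h0 l).1 hl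
    have ht : t = 1 := by
      have : (t - 1) * P.coroot' (l : ι) w = 0 := by linarith
      rcases mul_eq_zero.mp this with h | h
      · linarith
      · linarith
    rw [ht, one_mul] at hj'
    linarith
  have hsupp : supp G b = {j} := by
    ext l; exact ⟨fun hl => Finset.mem_singleton.mpr (huniq l hl), fun hl => by
      rw [Finset.mem_singleton.mp hl]; exact hj⟩
  have hjG : RootCh.fundWeight b j ∈ G.carrier := by
    refine (mem_carrier_iff hbG).mpr fun m => ?_
    rw [hsupp, Finset.mem_singleton, coroot'_fundWeight]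
    constructor <;> intro hm <;> simp [hm]
  have e1 : w = P.coroot' j w • RootCh.fundWeight b j := by
    conv_lhs => rw [← sum_fundWeight b w]
    refine Finset.sum_eq_single j (fun l _ hl => ?_) (by simp)
    rw [((mem_carrier_iff hbG).mp hwG l).2 (by simp [hsupp, hl]), zero_smul]
  have hc0 : 0 < P.coroot' j w := ((mem_carrier_iff hbG).mp hwG j).1 hj
  have hone : P.coroot' j w = 1 := by
    refine eq_one_of_int hc0 (c' := P.coroot' i (RootCh.fundWeight b j)) ?_
      (exists_int_coroot'_fundWeight b' i j) (exists_int_coroot'_fundWeight b j i)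
    have := congrArg (P.coroot' (i : ι)) e1
    rw [map_smul, smul_eq_mul, hwdef, RootCh.coroot'_fundWeight_self] at this
    exact this.symm
  refine ⟨j, by rw [e1, hone, one_smul], ?_⟩
  set x := RootCh.fundCoweight b' i with hxdef
  have hxG : x ∈ G.dualCarrier := by
    refine (mem_dualCarrier_iff hb'G).mpr fun m => ?_
    rw [hsupp', Finset.mem_singleton, hxdef, root'_fundCoweight]
    constructor <;> intro hm <;> simp [hm]
  have e2 : x = P.root' j x • RootCh.fundCoweight b j := by
    conv_lhs => rw [← sum_fundCoweight b x]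
    refine Finset.sum_eq_single j (fun l _ hl => ?_) (by simp)
    rw [((mem_dualCarrier_iff hbG).mp hxG l).2 (by simp [hsupp, hl]), zero_smul]
  have hd0 : 0 < P.root' j x := ((mem_dualCarrier_iff hbG).mp hxG j).1 hj
  have hone' : P.root' j x = 1 := by
    refine eq_one_of_int hd0 (c' := P.root' i (RootCh.fundCoweight b j)) ?_
      (exists_int_coef b' j i) (exists_int_coef b i j)
    have := congrArg (P.root' (i : ι)) e2
    rw [map_smul, smul_eq_mul, hxdef, RootCh.root'_fundCoweight_self] at this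
    exact this.symm
  rw [e2, hone', one_smul]

theorem fundWeight_injective (b : P.Base) : Function.Injective (RootCh.fundWeight b) := by
  intro i j h
  by_contra hne
  have := RootCh.coroot'_fundWeight_self b i
  rw [h, RootCh.coroot'_fundWeight_of_ne b j i hne] at this
  exact zero_ne_one this

theorem fundCoweight_injective (b : P.Base) : Function.Injective (RootCh.fundCoweight b) := by
  intro i j h
  by_contra hne
  have := RootCh.root'_fundCoweight_self b i
  rw [h, RootCh.root'_fundCoweight_of_ne b j i hne] at this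
  exact zero_ne_one this

theorem fundWeight_mem_closedChamber (b : P.Base) (j : b.support) :
    RootCh.fundWeight b j ∈ RootCh.closedChamber b := by
  classical
  intro k hk
  show 0 ≤ P.coroot' ((⟨k, hk⟩ : b.support) : ι) _
  rw [coroot'_fundWeight]
  split_ifs <;> simp

theorem baseCorners_eq (b : P.Base) :
    RootCh.baseCorners b = Set.range (RootCh.fundWeight b) := by
  ext w
  constructor
  · rintro ⟨⟨b', i, rfl⟩, hw⟩
    obtain ⟨j, hj, -⟩ := exists_fund_eq b b' i hw
    exact ⟨j, hj⟩
  · rintro ⟨j, rfl⟩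
    exact ⟨⟨b, j, rfl⟩, fundWeight_mem_closedChamber b j⟩

theorem corr_fundWeight_iff (b : P.Base) (j : b.support) {x : N} :
    RootCh.Corr P (RootCh.fundWeight b j) x ↔ x = RootCh.fundCoweight b j := by
  constructor
  · rintro ⟨b', i, hw, rfl⟩
    obtain ⟨l, hl, hl'⟩ := exists_fund_eq b b' i (hw ▸ fundWeight_mem_closedChamber b j)
    rw [fundWeight_injective b (hl.trans hw)] at hl'
    exact hl'.symm
  · rintro rfl; exact ⟨b, j, rfl, rfl⟩

theorem fundWeight_mem_closure_iff (hb : b ∈ F.cham) {j : b.support} :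
    RootCh.fundWeight b j ∈ F.closure ↔ j ∈ supp F b := by
  classical
  rw [mem_closure_iff hb]
  constructor
  · intro h
    by_contra hj
    have := (h j).2 hj
    rw [RootCh.coroot'_fundWeight_self] at this
    exact one_ne_zero this
  · intro hj l
    rw [coroot'_fundWeight]
    refine ⟨by split_ifs <;> simp, fun hl => ?_⟩
    rw [if_neg]; rintro rfl; exact hl hj

theorem closure_subset_closedChamber (hb : b ∈ F.cham) : F.closure ⊆ RootCh.closedChamber b :=
  fun _ hη k hk => ((mem_closure_iff hb).mp hη ⟨k, hk⟩).1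

theorem corners_eq (hb : b ∈ F.cham) :
    F.corners = RootCh.fundWeight b '' (supp F b : Set b.support) := by
  ext w
  constructor
  · rintro ⟨hw, hw'⟩
    obtain ⟨j, rfl⟩ : w ∈ Set.range (RootCh.fundWeight b) :=
      baseCorners_eq b ▸ ⟨hw, closure_subset_closedChamber hb hw'⟩
    exact ⟨j, (fundWeight_mem_closure_iff hb).mp hw', rfl⟩
  · rintro ⟨j, hj, rfl⟩
    exact ⟨⟨b, j, rfl⟩, (fundWeight_mem_closure_iff hb).mpr hj⟩

theorem dualCorners_eq (hb : b ∈ F.cham) :
    F.dualCorners = RootCh.fundCoweight b '' (supp F b : Set b.support) := by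
  classical
  ext x
  constructor
  · rintro ⟨⟨b'', i, hxi⟩, hx⟩
    let b' : P.Base := b''.flip
    have hxi' : RootCh.fundCoweight b' i = x := hxi
    obtain ⟨c, hc, hpol⟩ := pol_fundWeight b' i
    have hmem : c⁻¹ • RootCh.fundWeight b' i ∈ F.closure := by
      rw [← pol_mem_dualClosure_iff, map_smul, hpol, smul_smul, inv_mul_cancel₀ hc.ne', one_smul,
        hxi']
      exact hx
    have hmem' : RootCh.fundWeight b' i ∈ F.closure := by
      rw [mem_closure_iff hb] at hmem ⊢
      intro l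
      obtain ⟨h1, h2⟩ := hmem l
      rw [map_smul, smul_eq_mul] at h1 h2
      exact ⟨(mul_nonneg_iff_of_pos_left (inv_pos.mpr hc)).mp h1,
        fun hl => (mul_eq_zero.mp (h2 hl)).resolve_left (inv_ne_zero hc.ne')⟩
    obtain ⟨j, hj, hj'⟩ := exists_fund_eq b b' i (closure_subset_closedChamber hb hmem')
    exact ⟨j, (fundWeight_mem_closure_iff hb).mp (hj ▸ hmem'), hj'.trans hxi'⟩
  · rintro ⟨j, hj, rfl⟩
    refine ⟨⟨b.flip, j, rfl⟩, (mem_dualClosure_iff hb).mpr fun l => ?_⟩
    rw [root'_fundCoweight]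
    refine ⟨by split_ifs <;> simp, fun hl => ?_⟩
    rw [if_neg]; rintro rfl; exact hl hj

/-- Every set of simple indices occurs as the support of a facet. -/
theorem exists_facet (b : P.Base) (J : Finset b.support) :
    ∃ F : RootCh.Facet P, b ∈ F.cham ∧ supp F b = J := by
  classical
  let ξ : M := ∑ j ∈ J, RootCh.fundWeight b j
  have hξ : ξ ∈ (RootCh.Facet.ofVec P ξ).carrier := rfl
  have hc : ∀ l : b.support, P.coroot' l ξ = if l ∈ J then 1 else 0 := by
    intro l
    simp only [ξ, map_sum, coroot'_fundWeight, Finset.sum_ite_eq]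
  refine ⟨_, (mem_cham_iff b).mpr fun i hi => (mem_parab_iff hξ i).mpr ?_, ?_⟩
  · show 0 ≤ P.coroot' ((⟨i, hi⟩ : b.support) : ι) ξ
    rw [hc]; split_ifs <;> simp
  · ext l
    rw [mem_supp, sgn_eq hξ, sign_eq_one_iff, hc]
    split_ifs with h <;> simp [h]

end Groth.Agent.RootChLib
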