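import Groth.Prelude.Def_RootCh
import Mathlib

/-!
# Root systems over ordered fields: coefficients in a base, expansions in fundamental (co)weights,
and the polarization `M → N`, which identifies sign vectors with dual sign vectors.
-/

set_option autoImplicit false
set_option linter.unusedSectionVars false

universe u v w x

open RootPairing Set

namespace Groth.Agent.RootChLib

variable {ι : Type u} {R : Type v} {M : Type w} {N : Type x}
variable [Field R] [LinearOrder R] [IsStrictOrderedRing R]
variable [AddCommGroup M] [Module R M] [AddCommGroup N] [Module R N] [Finite ι]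
variable {P : RootPairing ι R M N} [P.IsRootSystem]

/-- The polarization `M → N`, with the `Fintype` instance hidden. -/
noncomputable def pol (P : RootPairing ι R M N) : M →ₗ[R] N :=
  letI := Fintype.ofFinite ι
  P.Polarization

theorem root'_apply (i : ι) (y : N) : P.root' i y = P.toLinearMap (P.root i) y := rfl

theorem coroot'_apply (i : ι) (ξ : M) : P.coroot' i ξ = P.toLinearMap ξ (P.coroot i) := rfl

theorem pol_symm (η ξ : M) : P.toLinearMap η (pol P ξ) = P.toLinearMap ξ (pol P η) := by
  letI := Fintype.ofFinite ι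
  simp only [pol, P.toLinearMap_apply_apply_Polarization]
  exact P.rootForm_symmetric.eq _ _

theorem pol_pos {ξ : M} (hξ : ξ ≠ 0) : 0 < P.toLinearMap ξ (pol P ξ) := by
  letI := Fintype.ofFinite ι
  simp only [pol, P.toLinearMap_apply_apply_Polarization]
  refine P.rootForm_pos_of_ne_zero ?_ hξ
  show ξ ∈ Submodule.span R (range P.root)
  rw [IsRootSystem.span_root_eq_top (P := P)]
  trivial

theorem pol_root (P : RootPairing ι R M N) [P.IsRootSystem] (i : ι) :
    ∃ c : R, 0 < c ∧ pol P (P.root i) = c • P.coroot i := by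
  letI := Fintype.ofFinite ι
  refine ⟨P.RootForm (P.root i) (P.root i) / 2, div_pos (P.rootForm_pos_of_ne_zero ?_ (P.ne_zero i))
    two_pos, ?_⟩
  · exact Submodule.subset_span (mem_range_self i)
  · have h := P.rootForm_self_smul_coroot i
    rw [div_eq_inv_mul, mul_smul, h, ← Nat.cast_smul_eq_nsmul R, smul_smul, Nat.cast_ofNat,
      inv_mul_cancel₀ two_ne_zero, one_smul]
    rfl

theorem root'_pol (i : ι) :
    ∃ c : R, 0 < c ∧ ∀ ξ : M, P.root' i (pol P ξ) = c * P.coroot' i ξ := by
  obtain ⟨c, hc, h⟩ := pol_root P i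
  refine ⟨c, hc, fun ξ => ?_⟩
  rw [root'_apply, pol_symm, h, map_smul, smul_eq_mul, coroot'_apply]

theorem cosgnVec_pol (ξ : M) : RootCh.cosgnVec P (pol P ξ) = RootCh.sgnVec P ξ := by
  funext i
  obtain ⟨c, hc, h⟩ := root'_pol (P := P) i
  simp [RootCh.cosgnVec, RootCh.sgnVec, h, sign_mul, sign_pos hc]

theorem root'_pol_nonneg_iff (i : ι) (ξ : M) :
    0 ≤ P.root' i (pol P ξ) ↔ 0 ≤ P.coroot' i ξ := by
  obtain ⟨c, hc, h⟩ := root'_pol (P := P) i
  rw [h]; exact mul_nonneg_iff_of_pos_left hc

theorem root'_pol_pos_iff (i : ι) (ξ : M) :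
    0 < P.root' i (pol P ξ) ↔ 0 < P.coroot' i ξ := by
  obtain ⟨c, hc, h⟩ := root'_pol (P := P) i
  rw [h]; exact mul_pos_iff_of_pos_left hc

theorem root'_pol_eq_zero_iff (i : ι) (ξ : M) :
    P.root' i (pol P ξ) = 0 ↔ P.coroot' i ξ = 0 := by
  obtain ⟨c, hc, h⟩ := root'_pol (P := P) i
  rw [h]; simp [hc.ne']

theorem root'_neg (i : ι) (y : N) : P.root' (P.reflectionPerm i i) y = -P.root' i y := by
  simp [root'_apply]

theorem coroot'_neg (i : ι) (ξ : M) : P.coroot' (P.reflectionPerm i i) ξ = -P.coroot' i ξ := by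
  simp [coroot'_apply]

variable (b : P.Base)

theorem coroot'_fundWeight (i j : b.support) [Decidable (j = i)] :
    P.coroot' j (RootCh.fundWeight b i) = if j = i then 1 else 0 := by
  split_ifs with h
  · rw [h]; exact RootCh.coroot'_fundWeight_self b i
  · exact RootCh.coroot'_fundWeight_of_ne b i j h

theorem root'_fundCoweight (i j : b.support) [Decidable (j = i)] :
    P.root' j (RootCh.fundCoweight b i) = if j = i then 1 else 0 := by
  split_ifs with h
  · rw [h]; exact RootCh.root'_fundCoweight_self b i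
  · exact RootCh.root'_fundCoweight_of_ne b i j h

/-- The coefficient of the root `k` at the simple root `j`. -/
noncomputable def coef (k : ι) (j : b.support) : R := P.root' k (RootCh.fundCoweight b j)

theorem coef_simple (i j : b.support) [Decidable (i = j)] :
    coef b i j = if i = j then 1 else 0 := root'_fundCoweight b j i

theorem ext_root' {x y : N} (h : ∀ i : b.support, P.root' i x = P.root' i y) : x = y := by
  apply P.flip.toPerfPair.injective
  refine b.toWeightBasis.ext fun i => ?_
  simp only [Base.toWeightBasis_apply]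
  exact h i

theorem ext_coroot' {ξ η : M} (h : ∀ i : b.support, P.coroot' i ξ = P.coroot' i η) : ξ = η := by
  apply P.toPerfPair.injective
  refine b.toCoweightBasis.ext fun i => ?_
  simp only [Base.toCoweightBasis_apply]
  exact h i

/-- Expansion of a vector of `M` in the fundamental weights. -/
theorem sum_fundWeight (ξ : M) :
    ∑ j : b.support, P.coroot' j ξ • RootCh.fundWeight b j = ξ := by
  classical
  refine ext_coroot' b fun i => ?_
  rw [map_sum, Finset.sum_eq_single i]
  · rw [map_smul, smul_eq_mul, RootCh.coroot'_fundWeight_self, mul_one]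
  · intro l _ hl
    rw [map_smul, smul_eq_mul, RootCh.coroot'_fundWeight_of_ne b l i hl.symm, mul_zero]
  · simp

/-- Expansion of a vector of `N` in the fundamental coweights. -/
theorem sum_fundCoweight (y : N) :
    ∑ j : b.support, P.root' j y • RootCh.fundCoweight b j = y := by
  classical
  refine ext_root' b fun i => ?_
  rw [map_sum, Finset.sum_eq_single i]
  · rw [map_smul, smul_eq_mul, RootCh.root'_fundCoweight_self, mul_one]
  · intro l _ hl
    rw [map_smul, smul_eq_mul, RootCh.root'_fundCoweight_of_ne b l i hl.symm, mul_zero]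
  · simp

theorem root'_eq_sum (k : ι) (y : N) :
    P.root' k y = ∑ j : b.support, coef b k j * P.root' j y := by
  conv_lhs => rw [← sum_fundCoweight b y]
  simp [map_sum, coef, mul_comm]

theorem root_eq_sum (k : ι) : P.root k = ∑ j : b.support, coef b k j • P.root j := by
  apply P.toPerfPair.injective
  ext y
  simp only [map_sum, map_smul, LinearMap.sum_apply, LinearMap.smul_apply, smul_eq_mul]
  exact root'_eq_sum b k y

/-- The coefficients are integers, all nonnegative for a positive root. -/
theorem exists_coef_int (k : ι) :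
    ∃ f : b.support → ℤ, (∀ j, coef b k j = (f j : R)) ∧ b.height k = ∑ j, f j ∧
      ((∀ j, 0 ≤ f j) ∨ ∀ j, f j ≤ 0) := by
  classical
  obtain ⟨f, -, hsgn, hf⟩ := b.exists_root_eq_sum_int k
  refine ⟨fun j => f j, fun j => ?_, ?_, ?_⟩
  · rw [coef, root'_apply, hf, ← Finset.sum_coe_sort]
    simp only [map_sum, map_zsmul, LinearMap.sum_apply, LinearMap.smul_apply]
    rw [Finset.sum_eq_single j]
    · rw [← root'_apply, RootCh.root'_fundCoweight_self]; simp
    · intro l _ hl
      rw [← root'_apply, RootCh.root'_fundCoweight_of_ne b j l hl]; simp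
    · simp
  · rw [b.height_eq_sum hf]; exact (Finset.sum_coe_sort _ _).symm
  · rcases hsgn with h | h
    · exact Or.inl fun j => h.le j
    · exact Or.inr fun j => h.le j

theorem coef_nonneg {k : ι} (hk : b.IsPos k) (j : b.support) : 0 ≤ coef b k j := by
  obtain ⟨f, hf, hh, hs | hs⟩ := exists_coef_int b k
  · rw [hf]; exact_mod_cast hs j
  · have : b.height k ≤ 0 := hh ▸ Finset.sum_nonpos fun l _ => hs l
    exact absurd (b.isPos_iff.mp hk) (not_lt.mpr this)

theorem one_le_coef_of_ne_zero {k : ι} (hk : b.IsPos k) {j : b.support} (h : coef b k j ≠ 0) :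
    1 ≤ coef b k j := by
  have h0 := coef_nonneg b hk j
  obtain ⟨f, hf, -, -⟩ := exists_coef_int b k
  rw [hf] at h h0 ⊢
  have h0' : 0 ≤ f j := by exact_mod_cast h0
  have h' : f j ≠ 0 := fun e => h (by simp [e])
  exact_mod_cast (show 1 ≤ f j by omega)

theorem exists_coef_pos {k : ι} (hk : b.IsPos k) : ∃ j : b.support, 0 < coef b k j := by
  by_contra! h
  refine P.ne_zero k ?_
  rw [root_eq_sum b k]
  refine Finset.sum_eq_zero fun j _ => ?_
  rw [le_antisymm (h j) (coef_nonneg b hk j), zero_smul]

theorem coef_neg (k : ι) (j : b.support) : coef b (P.reflectionPerm k k) j = -coef b k j :=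
  root'_neg k _

theorem root'_nonneg_of_isPos {y : N} (hy : ∀ i : b.support, 0 ≤ P.root' i y) {k : ι}
    (hk : b.IsPos k) : 0 ≤ P.root' k y := by
  rw [root'_eq_sum b k y]
  exact Finset.sum_nonneg fun j _ => mul_nonneg (coef_nonneg b hk j) (hy j)

theorem root'_pos_iff_of_isPos {y : N} (hy : ∀ i : b.support, 0 ≤ P.root' i y) {k : ι}
    (hk : b.IsPos k) : 0 < P.root' k y ↔ ∃ j : b.support, coef b k j ≠ 0 ∧ 0 < P.root' j y := by
  constructor
  · intro h
    by_contra! hne
    rw [root'_eq_sum b k y, Finset.sum_eq_zero] at h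
    · exact lt_irrefl _ h
    intro j _
    rcases eq_or_ne (coef b k j) 0 with h0 | h0
    · rw [h0, zero_mul]
    · rw [le_antisymm (hne j h0) (hy j), mul_zero]
  · rintro ⟨j, hc, hj⟩
    rw [root'_eq_sum b k y]
    exact Finset.sum_pos' (fun l _ => mul_nonneg (coef_nonneg b hk l) (hy l))
      ⟨j, Finset.mem_univ _, mul_pos ((coef_nonneg b hk j).lt_of_ne hc.symm) hj⟩

theorem coroot'_nonneg_of_isPos {ξ : M} (hξ : ∀ i : b.support, 0 ≤ P.coroot' i ξ) {k : ι}
    (hk : b.IsPos k) : 0 ≤ P.coroot' k ξ :=
  (root'_pol_nonneg_iff k ξ).mp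
    (root'_nonneg_of_isPos b (fun i => (root'_pol_nonneg_iff _ ξ).mpr (hξ i)) hk)

theorem coroot'_pos_iff_of_isPos {ξ : M} (hξ : ∀ i : b.support, 0 ≤ P.coroot' i ξ) {k : ι}
    (hk : b.IsPos k) : 0 < P.coroot' k ξ ↔ ∃ j : b.support, coef b k j ≠ 0 ∧ 0 < P.coroot' j ξ := by
  rw [← root'_pol_pos_iff,
    root'_pos_iff_of_isPos b (fun i => (root'_pol_nonneg_iff _ ξ).mpr (hξ i)) hk]
  exact exists_congr fun j => and_congr_right fun _ => root'_pol_pos_iff _ ξ

/-- The polarization of a fundamental weight is a positive multiple of the fundamental coweight. -/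
theorem pol_fundWeight (j : b.support) :
    ∃ c : R, 0 < c ∧ pol P (RootCh.fundWeight b j) = c • RootCh.fundCoweight b j := by
  classical
  obtain ⟨c, hc, h⟩ := root'_pol (P := P) (j : ι)
  refine ⟨c, hc, ext_root' b fun i => ?_⟩
  rw [map_smul, smul_eq_mul, root'_fundCoweight]
  split_ifs with hij
  · rw [hij, h, RootCh.coroot'_fundWeight_self]
  · rw [mul_zero, root'_pol_eq_zero_iff, RootCh.coroot'_fundWeight_of_ne b j i hij]

theorem neg_isPos_iff (k : ι) : b.IsPos (P.reflectionPerm k k) ↔ ¬ b.IsPos k :=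
  Base.IsPos.neg_iff_not b k

theorem eq_or_pos_neg (k : ι) : b.IsPos k ∨ b.IsPos (P.reflectionPerm k k) := by
  by_cases h : b.IsPos k
  · exact Or.inl h
  · exact Or.inr ((neg_isPos_iff b k).mpr h)

end Groth.Agent.RootChLib
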