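import Groth.Agent.RootChLib.Sums
import Groth.Agent.RootChLib.Farkas

/-!
# Complementary convex solids: monotonicity, the solid as an intersection of half-spaces, special facets
-/

set_option autoImplicit false
set_option linter.unusedSectionVars false

universe u v w x

open RootPairing Set

namespace Groth.Agent.RootChLib

variable {ι : Type u} {R : Type v} {M : Type w} {N : Type x}
variable [Field R] [LinearOrder R] [IsStrictOrderedRing R]
variable [AddCommGroup M] [Module R M] [AddCommGroup N] [Module R N] [Finite ι]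
variable {P : RootPairing ι R M N} [P.IsRootSystem] [P.IsCrystallographic] [P.IsReduced]

theorem finite_base (P : RootPairing ι R M N) [P.IsRootSystem] [P.IsCrystallographic] [P.IsReduced] :
    Finite P.Base :=
  Finite.of_injective (fun b : P.Base => b.support) fun _ _ h => base_ext h

theorem ext_pair {x y : N} (b : P.Base)
    (h : ∀ l : b.support, P.toLinearMap (RootCh.fundWeight b l) x =
      P.toLinearMap (RootCh.fundWeight b l) y) (ξ : M) :
    P.toLinearMap ξ x = P.toLinearMap ξ y := by
  rw [← sum_fundWeight b ξ]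
  simp only [map_sum, map_smul, LinearMap.sum_apply, LinearMap.smul_apply, h]

theorem exists_adjacent (b : P.Base) (i : b.support) :
    ∃ b' : P.Base, (∀ k, b'.IsPos k ↔ b.IsPos (P.reflectionPerm i k)) ∧
      RootCh.baseCorners b ∩ RootCh.baseCorners b' = RootCh.fundWeight b '' {l | l ≠ i} := by
  classical
  obtain ⟨b', hs, hb'⟩ := exists_map_base (RootPairing.Equiv.reflection P i) b
  have hpos : ∀ k, b'.IsPos k ↔ b.IsPos (P.reflectionPerm i k) := by
    intro k
    have h := hb' (P.reflectionPerm i k)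
    rwa [show RootPairing.Equiv.reflection P (i : ι) • P.reflectionPerm i k = k from by
      rw [RootSys.smul_index_reflection, P.reflectionPerm_self]] at h
  refine ⟨b', hpos, ?_⟩
  have hni : b'.IsPos (P.reflectionPerm (i : ι) i) := by
    rw [hpos, P.reflectionPerm_self]; exact Base.isPos_of_mem_support i.2
  rw [baseCorners_eq b]
  ext w
  constructor
  · rintro ⟨⟨l, rfl⟩, hw⟩
    refine ⟨l, fun (e : l = i) => ?_, rfl⟩
    subst e
    have h := coroot'_nonneg_of_isPos b' (ξ := RootCh.fundWeight b l)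
      (fun m => hw.2 m m.2) hni
    rw [coroot'_neg, RootCh.coroot'_fundWeight_self] at h
    linarith
  · rintro ⟨l, hl, rfl⟩
    refine ⟨⟨l, rfl⟩, ⟨b, l, rfl⟩, fun m hm => ?_⟩
    have hmpos := (hpos m).mp (Base.isPos_of_mem_support hm)
    by_cases hmi : m = P.reflectionPerm (i : ι) i
    · rw [hmi, coroot'_neg, RootCh.coroot'_fundWeight_of_ne b l i (fun e => hl e.symm), neg_zero]
    · have hmb : b.IsPos m := by
        have h := hmpos.reflectionPerm i.2 (fun e => hmi (by
          rw [← P.reflectionPerm_self (i : ι) m, e]))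
        rwa [P.reflectionPerm_self] at h
      exact coroot'_nonneg_of_isPos b
        (fun q => fundWeight_mem_closedChamber b l q q.2) hmb

theorem exists_adjacent_diff {d : P.Base → N} (hd : RootCh.IsCCS d) (b₀ : P.Base) (i : b₀.support)
    {b₁ : P.Base} (hpos : ∀ k, b₁.IsPos k ↔ b₀.IsPos (P.reflectionPerm i k))
    (hcor : RootCh.baseCorners b₀ ∩ RootCh.baseCorners b₁ = RootCh.fundWeight b₀ '' {l | l ≠ i}) :
    ∃ c : R, c ≤ 0 ∧ ∀ ξ : M,
      P.toLinearMap ξ (d b₀) = P.toLinearMap ξ (d b₁) + c * P.coroot' (i : ι) ξ := by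
  classical
  set c := P.toLinearMap (RootCh.fundWeight b₀ i) (d b₀) -
    P.toLinearMap (RootCh.fundWeight b₀ i) (d b₁) with hcdef
  have hdiff : ∀ ξ : M,
      P.toLinearMap ξ (d b₀) = P.toLinearMap ξ (d b₁) + c * P.coroot' (i : ι) ξ := by
    intro ξ
    have h := ext_pair b₀ (x := d b₀) (y := d b₁ + c • P.coroot i) (fun l => ?_) ξ
    · rw [h, map_add, map_smul, smul_eq_mul, coroot'_apply]
    · rw [map_add, map_smul, smul_eq_mul, ← coroot'_apply]
      rcases eq_or_ne l i with rfl | hli
      · rw [RootCh.coroot'_fundWeight_self, mul_one, hcdef]; ring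
      · rw [RootCh.coroot'_fundWeight_of_ne b₀ l i hli.symm, mul_zero, add_zero]
        have hmem : RootCh.fundWeight b₀ l ∈ RootCh.baseCorners b₀ ∩ RootCh.baseCorners b₁ :=
          hcor ▸ ⟨l, hli, rfl⟩
        exact hd.corner_eq b₀ b₁ _ hmem.1 hmem.2
  refine ⟨c, ?_, hdiff⟩
  have hcard : (RootCh.baseCorners b₁ ∩ RootCh.baseCorners b₀).ncard + 1 = b₁.support.card := by
    rw [Set.inter_comm, hcor, Set.ncard_image_of_injective _ (fundWeight_injective b₀)]
    have h2 : b₁.support.card = b₀.support.card := by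
      have e1 := b₀.toWeightBasis.indexEquiv b₁.toWeightBasis
      simpa using (Fintype.card_congr e1).symm
    rw [h2, show {l : b₀.support | l ≠ i} = ((Finset.univ.erase i : Finset b₀.support) : Set b₀.support) from
        Set.ext fun l => by simp, Set.ncard_coe_finset,
      Finset.card_erase_of_mem (Finset.mem_univ _), Finset.card_univ, Fintype.card_coe,
      Nat.sub_add_cancel (show 1 ≤ b₀.support.card from Finset.card_pos.mpr ⟨(i : ι), i.2⟩)]
  have huniq : ∀ k : ι, (b₁.IsPos k ∧ ¬ b₀.IsPos k) ↔ k = P.reflectionPerm (i : ι) i := by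
    intro k
    constructor
    · rintro ⟨h1, h2⟩
      rw [hpos] at h1
      by_contra hne
      have h := h1.reflectionPerm i.2 (fun e => hne (by rw [← P.reflectionPerm_self (i : ι) k, e]))
      rw [P.reflectionPerm_self] at h
      exact h2 h
    · rintro rfl
      rw [hpos, P.reflectionPerm_self, neg_isPos_iff]
      exact ⟨Base.isPos_of_mem_support i.2, not_not.mpr (Base.isPos_of_mem_support i.2)⟩
  have h := hd.wall_le b₁ b₀ _ hcard huniq
  have h2 := hdiff (P.root i)
  rw [root_coroot'_eq_pairing, P.pairing_same] at h2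
  rw [root'_neg, root'_neg, root'_apply, root'_apply] at h
  linarith

/-- A dominant vector of `b` attains its minimum on the solid at `d b`. -/
theorem pairing_d_le {d : P.Base → N} (hd : RootCh.IsCCS d) {b : P.Base} {ξ : M}
    (hξ : ξ ∈ RootCh.closedChamber b) (b₀ : P.Base) :
    P.toLinearMap ξ (d b) ≤ P.toLinearMap ξ (d b₀) := by
  suffices key : ∀ n : ℕ, ∀ b₀ : P.Base, {k | b₀.IsPos k ∧ ¬ b.IsPos k}.ncard = n →
      P.toLinearMap ξ (d b) ≤ P.toLinearMap ξ (d b₀) from key _ b₀ rfl
  intro n
  induction n using Nat.strong_induction_on with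
  | _ n ih =>
    intro b₀ hn
    by_cases hsub : ∀ i ∈ b₀.support, b.IsPos i
    · have hall : ∀ k, b₀.IsPos k → b.IsPos k := by
        intro k hk
        rw [RootSys.base_isPos_iff] at hk
        refine RootSys.pos_induction (RootSys.base_isSimpleSys b₀) (p := fun k => b.IsPos k)
          hsub (fun i j k hi _ he hj => hj.add (hsub i hi) he) hk
      have : b₀ = b := eq_of_forall_isPos fun k => ⟨hall k, fun hk => by
        by_contra hn'
        exact (neg_isPos_iff b k).mp (hall _ ((neg_isPos_iff b₀ k).mpr hn')) hk⟩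
      rw [this]
    · push Not at hsub
      obtain ⟨i, hi, hib⟩ := hsub
      obtain ⟨b₁, hpos, hcor⟩ := exists_adjacent b₀ ⟨i, hi⟩
      have hlt : {k | b₁.IsPos k ∧ ¬ b.IsPos k}.ncard < n := by
        rw [← hn]
        refine Set.ncard_lt_ncard ?_ (Set.toFinite _)
        refine (Set.ssubset_iff_exists).mpr ⟨fun k hk => ?_, i, ⟨?_, hib⟩, fun hk => ?_⟩
        · obtain ⟨h1, h2⟩ := hk
          rw [hpos] at h1
          refine ⟨?_, h2⟩
          by_cases hki : P.reflectionPerm i k = i
          · have hk' : k = P.reflectionPerm i i := by rw [← P.reflectionPerm_self i k, hki]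
            exact absurd (hk' ▸ (neg_isPos_iff b i).mpr hib) h2
          · have h := h1.reflectionPerm hi hki
            rwa [P.reflectionPerm_self] at h
        · exact Base.isPos_of_mem_support hi
        · have := (hpos i).mp hk.1
          exact (neg_isPos_iff b₀ i).mp this (Base.isPos_of_mem_support hi)
      obtain ⟨c, hc, hdiff⟩ := exists_adjacent_diff hd b₀ ⟨i, hi⟩ hpos hcor
      have h1 := ih _ hlt b₁ rfl
      have h2 : P.coroot' i ξ ≤ 0 := by
        have h := coroot'_nonneg_of_isPos b (ξ := ξ) (fun q => hξ q q.2)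
          ((neg_isPos_iff b i).mpr hib)
        rw [coroot'_neg] at h
        linarith
      rw [hdiff ξ]
      have := mul_nonneg_of_nonpos_of_nonpos hc h2
      linarith

theorem pairing_d_le_of_mem_solid {d : P.Base → N} (hd : RootCh.IsCCS d) {b : P.Base} {ξ : M}
    (hξ : ξ ∈ RootCh.closedChamber b) {z : N} (hz : z ∈ RootCh.solid d) :
    P.toLinearMap ξ (d b) ≤ P.toLinearMap ξ z := by
  refine convexHull_min ?_ (convex_halfSpace_ge (P.toLinearMap ξ).isLinear _) hz
  rintro _ ⟨b₀, rfl⟩
  exact pairing_d_le hd hξ b₀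

theorem mem_baseCorners_of_mem_cham {F : RootCh.Facet P} {b : P.Base} (hb : b ∈ F.cham) {m : M}
    (hm : m ∈ F.corners) : m ∈ RootCh.baseCorners b :=
  ⟨hm.1, closure_subset_closedChamber hb hm.2⟩

theorem pairing_span_corners_eq {d : P.Base → N} (hd : RootCh.IsCCS d) {F : RootCh.Facet P}
    {b b' : P.Base} (hb : b ∈ F.cham) (hb' : b' ∈ F.cham) {σ : M}
    (hσ : σ ∈ Submodule.span R F.corners) :
    P.toLinearMap σ (d b) = P.toLinearMap σ (d b') := by
  induction hσ using Submodule.span_induction with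
  | mem m hm =>
    exact hd.corner_eq b b' m (mem_baseCorners_of_mem_cham hb hm) (mem_baseCorners_of_mem_cham hb' hm)
  | zero => simp
  | add s t _ _ h1 h2 => simp [h1, h2]
  | smul a s _ h1 => simp [h1]

theorem pairing_span_eq_of_mem_hyper {d : P.Base → N} {F : RootCh.Facet P} {b : P.Base}
    (hb : b ∈ F.cham) {y : N} (hy : ∀ m ∈ F.corners, y ∈ RootCh.hyper d m) {σ : M}
    (hσ : σ ∈ Submodule.span R F.corners) : P.toLinearMap σ y = P.toLinearMap σ (d b) := by
  induction hσ using Submodule.span_induction with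
  | mem m hm => exact hy m hm b (mem_baseCorners_of_mem_cham hb hm)
  | zero => simp
  | add s t _ _ h1 h2 => simp [h1, h2]
  | smul a s _ h1 => simp [h1]

theorem dualSolid_subset_solid {d : P.Base → N} (F : RootCh.Facet P) :
    RootCh.dualSolid d F ⊆ RootCh.solid d :=
  convexHull_mono (Set.image_subset_range _ _)

theorem corners'_nonneg {F : RootCh.Facet P} {m : M} (hm : m ∈ F.corners') :
    ∃ b ∈ F.cham, m ∈ RootCh.baseCorners b := by
  obtain ⟨b, hb, hmb⟩ := Set.mem_iUnion₂.mp hm
  exact ⟨b, hb, hmb⟩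

theorem dualSolid_eq {d : P.Base → N} (hd : RootCh.IsCCS d) (F : RootCh.Facet P) :
    RootCh.dualSolid d F =
      (⋂ m ∈ F.corners, RootCh.hyper d m) ∩ ⋂ m ∈ F.corners', RootCh.halfClosed d m := by
  classical
  ext y
  simp only [Set.mem_inter_iff, Set.mem_iInter]
  constructor
  · intro hy
    refine ⟨fun m hm b hb => ?_, fun m _ b hb => pairing_d_le_of_mem_solid hd hb.2
      (dualSolid_subset_solid F hy)⟩
    refine convexHull_min ?_ (convex_hyperplane (P.toLinearMap m).isLinear _) hy
    rintro _ ⟨b₀, hb₀, rfl⟩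
    exact hd.corner_eq b₀ b m (mem_baseCorners_of_mem_cham hb₀ hm) hb
  · rintro ⟨hhyp, hhalf⟩
    by_contra hnot
    have := finite_base P
    have := Fintype.ofFinite F.cham
    obtain ⟨f, hf⟩ := exists_sep (R := R) (fun b : F.cham => d b) y (by
      have : Set.range (fun b : F.cham => d b) = d '' F.cham := Set.image_eq_range d F.cham |>.symm
      rw [this]; exact hnot)
    set ξ := P.toPerfPair.symm f with hξdef
    have hξ : ∀ z, P.toLinearMap ξ z = f z := fun z => by
      rw [hξdef, P.toLinearMap.apply_symm_toPerfPair_self]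
    obtain ⟨ζ, hζ⟩ := carrier_nonempty F
    -- push `ξ` into the star of `F`
    obtain ⟨t, ht⟩ : ∃ t : R, ∀ i : ι, 0 < P.coroot' i ζ → 0 < P.coroot' i ξ + t * P.coroot' i ζ := by
      have := Fintype.ofFinite ι
      refine ⟨∑ i : ι, (|P.coroot' i ξ| + 1) / |P.coroot' i ζ|, fun i hi => ?_⟩
      have h1 : (|P.coroot' i ξ| + 1) / |P.coroot' i ζ| ≤
          ∑ i : ι, (|P.coroot' i ξ| + 1) / |P.coroot' i ζ| :=
        Finset.single_le_sum (f := fun i => (|P.coroot' i ξ| + 1) / |P.coroot' i ζ|)
          (fun j _ => div_nonneg (by positivity) (abs_nonneg _)) (Finset.mem_univ i)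
      rw [abs_of_pos hi, div_le_iff₀ hi] at h1
      have h2 := neg_abs_le (P.coroot' i ξ)
      linarith
    set G := RootCh.Facet.ofVec P (ξ + t • ζ)
    have hG : ξ + t • ζ ∈ G.carrier := rfl
    obtain ⟨b, hb⟩ := cham_nonempty G
    have hbF : b ∈ F.cham := by
      rw [mem_cham_iff]
      intro i hi hneg
      have hpos : 0 < P.coroot' (P.reflectionPerm i i) ζ := by
        rw [sgn_eq hζ, sign_eq_neg_one_iff] at hneg
        rw [coroot'_neg]; linarith
      have h1 := ht _ hpos
      have h2 : 0 ≤ P.coroot' i (ξ + t • ζ) := hb hG i hi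
      rw [map_add, map_smul, smul_eq_mul] at h2
      rw [coroot'_neg, coroot'_neg] at h1
      linarith
    have hle : P.toLinearMap (ξ + t • ζ) (d b) ≤ P.toLinearMap (ξ + t • ζ) y := by
      conv_lhs => rw [← sum_fundWeight b (ξ + t • ζ)]
      conv_rhs => rw [← sum_fundWeight b (ξ + t • ζ)]
      simp only [map_sum, map_smul, LinearMap.sum_apply, LinearMap.smul_apply, smul_eq_mul]
      refine Finset.sum_le_sum fun l _ => mul_le_mul_of_nonneg_left ?_ (hb hG l l.2)
      have hl : RootCh.fundWeight b l ∈ RootCh.baseCorners b := baseCorners_eq b ▸ ⟨l, rfl⟩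
      exact hhalf _ (Set.mem_iUnion₂.mpr ⟨b, hbF, hl⟩) b hl
    have heq := pairing_span_eq_of_mem_hyper hbF hhyp (carrier_subset_span_corners F hζ)
    simp only [map_add, map_smul, LinearMap.add_apply, LinearMap.smul_apply, smul_eq_mul, heq] at hle
    have h3 := hf ⟨b, hbF⟩
    rw [← hξ, ← hξ] at h3
    linarith

theorem corners_origin (P : RootPairing ι R M N) [P.IsRootSystem] [P.IsCrystallographic]
    [P.IsReduced] : (RootCh.Facet.origin P).corners = ∅ := by
  obtain ⟨b, hb⟩ := cham_nonempty (RootCh.Facet.origin P)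
  rw [corners_eq hb]
  have h0 : (0 : M) ∈ (RootCh.Facet.origin P).carrier := rfl
  have : supp (RootCh.Facet.origin P) b = ∅ := by
    ext j
    simp [mem_supp, sgn_eq h0]
  simp [this]

theorem cham_origin (b : P.Base) : b ∈ (RootCh.Facet.origin P).cham := by
  have h0 : (0 : M) ∈ (RootCh.Facet.origin P).carrier := rfl
  rw [mem_cham_iff]
  intro i _
  rw [sgn_eq h0]
  simp

theorem dualSolid_origin (d : P.Base → N) :
    RootCh.dualSolid d (RootCh.Facet.origin P) = RootCh.solid d := by
  rw [RootCh.dualSolid, Set.eq_univ_of_forall (cham_origin (P := P)), Set.image_univ]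
  rfl

theorem mem_solid_iff {d : P.Base → N} (hd : RootCh.IsCCS d) {y : N} :
    y ∈ RootCh.solid d ↔ ∀ (b : P.Base), ∀ m ∈ RootCh.baseCorners b,
      P.toLinearMap m (d b) ≤ P.toLinearMap m y := by
  refine ⟨fun hy b m hm => pairing_d_le_of_mem_solid hd hm.2 hy, fun h => ?_⟩
  rw [← dualSolid_origin d, dualSolid_eq hd, corners_origin]
  simp only [Set.mem_inter_iff, Set.mem_iInter]
  exact ⟨fun m hm => hm.elim, fun m _ b hb => h b m hb⟩

end Groth.Agent.RootChLib
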