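import Groth.Agent.RootChLib.Solid

/-!
# The point `y(F)` of a facet and special facets
-/

set_option autoImplicit false
set_option linter.unusedSectionVars false

universe u v w x

open RootPairing Set

namespace Groth.Agent.RootChLib

variable {ι : Type u} {R : Type v} {M : Type w} {N : Type x}
variable [Field R] [LinearOrder R] [IsStrictOrderedRing R]
variable [AddCommGroup M] [Module R M] [AddCommGroup N] [Module R N] [Finite ι]
variable {P : RootPairing ι R M N} [P.IsRootSystem] [P.IsCrystallographic] [P.IsReduced]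
variable {F : RootCh.Facet P} {b : P.Base}

theorem span_dualCarrier_eq (F : RootCh.Facet P) :
    Submodule.span R F.dualCarrier = (Submodule.span R F.corners).map (pol P) := by
  rw [← span_carrier_eq, Submodule.map_span]
  congr 1
  ext y
  obtain ⟨b, -⟩ := cham_nonempty F
  obtain ⟨ξ, rfl, -⟩ := exists_pol_eq b y
  rw [pol_mem_dualCarrier_iff]
  refine ⟨fun h => ⟨ξ, h, rfl⟩, ?_⟩
  rintro ⟨η, hη, he⟩
  exact pol_mem_dualCarrier_iff.mp (he ▸ pol_mem_dualCarrier_iff.mpr hη)

theorem pol_eq_zero_of_orth {ξ : M} (h : P.toLinearMap ξ (pol P ξ) = 0) : ξ = 0 := by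
  by_contra hne
  exact (pol_pos hne).ne' h

theorem exists_yLocus {d : P.Base → N} (hd : RootCh.IsCCS d) (F : RootCh.Facet P) :
    ∃ y₀ : N, RootCh.yLocus d F = {y₀} := by
  obtain ⟨b, hb⟩ := cham_nonempty F
  set V := Submodule.span R F.corners
  have hfin : F.corners.Finite := by rw [corners_eq hb]; exact Set.toFinite _
  haveI : FiniteDimensional R V := FiniteDimensional.span_of_finite R hfin
  let L : V →ₗ[R] Module.Dual R V :=
    ((P.toLinearMap.compl₂ ((pol P).comp V.subtype)).comp V.subtype).flip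
  have hL : ∀ x σ : V, L x σ = P.toLinearMap σ (pol P x) := fun x σ => rfl
  have hinj : Function.Injective L := by
    rw [injective_iff_map_eq_zero]
    intro x hx
    have h := hL x x
    rw [hx, LinearMap.zero_apply] at h
    exact Subtype.ext (pol_eq_zero_of_orth h.symm)
  have hsurj := (LinearMap.injective_iff_surjective_of_finrank_eq_finrank
    (Subspace.dual_finrank_eq).symm).mp hinj
  obtain ⟨x, hx⟩ := hsurj ((P.toLinearMap.flip (d b)).comp V.subtype)
  refine ⟨pol P x, Set.ext fun y => ⟨fun hy => ?_, ?_⟩⟩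
  · obtain ⟨hy1, hy2⟩ := hy
    rw [SetLike.mem_coe, span_dualCarrier_eq] at hy2
    obtain ⟨ξ, hξ, rfl⟩ := hy2
    simp only [Set.mem_iInter] at hy1
    have hsub : ξ - x ∈ V := sub_mem hξ x.2
    have e1 := pairing_span_eq_of_mem_hyper hb hy1 hsub
    have e2 : L x ⟨_, hsub⟩ = P.toLinearMap (ξ - x) (d b) := by rw [hx]; rfl
    rw [hL] at e2
    have : ξ - (x : M) = 0 := pol_eq_zero_of_orth (by rw [map_sub (pol P), map_sub, e1, e2, sub_self])
    rw [Set.mem_singleton_iff, sub_eq_zero.mp this]
  · rintro rfl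
    refine ⟨Set.mem_iInter₂.mpr fun m hm b' hb' => ?_, ?_⟩
    · have h : L x ⟨m, Submodule.subset_span hm⟩ = P.toLinearMap m (d b) := by rw [hx]; rfl
      rw [hL] at h
      exact h.trans (hd.corner_eq b b' m (mem_baseCorners_of_mem_cham hb hm) hb')
    · rw [SetLike.mem_coe, span_dualCarrier_eq]
      exact Submodule.mem_map_of_mem x.2

theorem root'_eq_zero_of_mem_span (hb : b ∈ F.cham) {y : N}
    (hy : y ∈ Submodule.span R F.dualCarrier) {l : b.support} (hl : l ∉ supp F b) :
    P.root' (l : ι) y = 0 := by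
  induction hy using Submodule.span_induction with
  | mem y hy => exact ((mem_dualCarrier_iff hb).mp hy l).2 hl
  | zero => simp
  | add s t _ _ h1 h2 => rw [map_add, h1, h2, add_zero]
  | smul a s _ h1 => rw [map_smul, h1, smul_zero]

theorem root'_eq_sum_supp (hb : b ∈ F.cham) {y : N}
    (hy : y ∈ Submodule.span R F.dualCarrier) (k : ι) :
    P.root' k y = ∑ j ∈ supp F b, coef b k j * P.root' (j : ι) y := by
  rw [root'_eq_sum b k y]
  refine (Finset.sum_subset (Finset.subset_univ _) fun l _ hl => ?_).symm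
  rw [root'_eq_zero_of_mem_span hb hy hl, mul_zero]

theorem numInv_eq_card_mul {d : P.Base → N} (hb : b ∈ F.cham) {y : N}
    (hy : y ∈ RootCh.yLocus d F) {j : b.support} (hj : j ∈ supp F b) :
    F.numInv d (RootCh.fundWeight b j) b =
      (F.Psi (RootCh.fundWeight b j)).toFinite.toFinset.card * P.root' (j : ι) y := by
  obtain ⟨hy1, hy2⟩ := hy
  simp only [Set.mem_iInter] at hy1
  have hm : RootCh.fundWeight b j ∈ F.corners := by rw [corners_eq hb]; exact ⟨j, hj, rfl⟩
  rw [numInv_eq, ← pairing_span_eq_of_mem_hyper hb hy1 (rootSum_Psi_mem_span hm), rootSum_apply]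
  rw [Finset.sum_congr rfl (g := fun _ => P.root' (j : ι) y) fun k hk => ?_, Finset.sum_const,
    nsmul_eq_mul]
  rw [Set.Finite.mem_toFinset, mem_Psi_iff hb hj] at hk
  rw [root'_eq_sum_supp hb hy2 k, Finset.sum_eq_single j (fun l hl hlj => by
    rw [hk.2 l hl hlj, zero_mul]) (fun h => absurd hj h), hk.1, one_mul]

theorem mem_yLocus_of_mem {d : P.Base → N} (hd : RootCh.IsCCS d) {y : N}
    (hy : y ∈ F.dualCarrier) (hy' : y ∈ RootCh.dualSolid d F) : y ∈ RootCh.yLocus d F := by
  rw [dualSolid_eq hd] at hy'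
  exact ⟨hy'.1, Submodule.subset_span hy⟩

theorem exists_yLocus_of_isSpecial {d : P.Base → N} (hd : RootCh.IsCCS d)
    (hF : RootCh.IsSpecial d F) :
    ∃ y₀ : N, RootCh.yLocus d F = {y₀} ∧ F.dualCarrier ∩ RootCh.dualSolid d F = {y₀} := by
  obtain ⟨y₀, hy₀⟩ := exists_yLocus hd F
  refine ⟨y₀, hy₀, ?_⟩
  obtain ⟨y, hy, hy'⟩ := hF
  have key : ∀ z, z ∈ F.dualCarrier → z ∈ RootCh.dualSolid d F → z = y₀ := fun z h h' => by
    have := mem_yLocus_of_mem hd h h'
    rwa [hy₀] at this
  ext z
  refine ⟨fun hz => key z hz.1 hz.2, ?_⟩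
  rintro rfl
  obtain rfl := key y hy hy'
  exact ⟨hy, hy'⟩

theorem numInv_pos_and_meets_iff {d : P.Base → N} (hd : RootCh.IsCCS d) (F : RootCh.Facet P) :
    ((∀ m ∈ F.corners, ∀ b ∈ F.cham, 0 < F.numInv d m b) ∧
        (RootCh.dualSolid d F ∩ (Submodule.span R F.dualCarrier : Set N)).Nonempty) ↔
      RootCh.IsSpecial d F := by
  constructor
  · rintro ⟨h1, y, hy, hys⟩
    obtain ⟨b, hb⟩ := cham_nonempty F
    refine ⟨y, (mem_dualCarrier_iff hb).mpr fun j => ⟨fun hj => ?_,
      root'_eq_zero_of_mem_span hb hys⟩, hy⟩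
    have hy' : y ∈ RootCh.yLocus d F := by
      have := (dualSolid_eq hd F) ▸ hy
      exact ⟨this.1, hys⟩
    have h := h1 _ (by rw [corners_eq hb]; exact ⟨j, hj, rfl⟩) b hb
    rw [numInv_eq_card_mul hb hy' hj] at h
    exact pos_of_mul_pos_right h (Nat.cast_nonneg _)
  · rintro ⟨y, hy, hy'⟩
    refine ⟨fun m hm b hb => ?_, y, hy', Submodule.subset_span hy⟩
    rw [corners_eq hb] at hm
    obtain ⟨j, hj, rfl⟩ := hm
    rw [numInv_eq_card_mul hb (mem_yLocus_of_mem hd hy hy') hj]
    refine mul_pos (Nat.cast_pos.mpr (Finset.card_pos.mpr ⟨j, ?_⟩))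
      (((mem_dualCarrier_iff hb).mp hy j).1 hj)
    rw [Set.Finite.mem_toFinset]
    exact simple_mem_Psi hb hj

/-- Comparison of the degree of any facet with that of a special facet. -/
theorem deg_le_of_isSpecial {d : P.Base → N} (hd : RootCh.IsCCS d)
    (hF : RootCh.IsSpecial d F) (hb : b ∈ F.cham) (G : RootCh.Facet P) (c : P.Base)
    (hc : c ∈ G.cham) :
    G.deg d c ≤ F.deg d b ∧ (G.deg d c = F.deg d b → G ≤ F) := by
  classical
  have := Fintype.ofFinite ι
  obtain ⟨y, hy, hy'⟩ := hF
  have hyF : F.deg d b = ∑ i : ι, if i ∈ F.parab then P.root' i y else 0 := by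
    have h := mem_yLocus_of_mem hd hy hy'
    obtain ⟨h1, -⟩ := h
    simp only [Set.mem_iInter] at h1
    rw [deg_eq, ← pairing_span_eq_of_mem_hyper hb h1 (rootSum_parab_mem_span F), rootSum_apply,
      ← Finset.sum_filter]
    refine Finset.sum_congr ?_ fun _ _ => rfl
    ext; simp
  have hG : G.deg d c ≤ ∑ i : ι, if i ∈ G.parab then P.root' i y else 0 := by
    rw [deg_eq]
    refine (pairing_d_le_of_mem_solid hd (hc (rootSum_parab_mem_carrier G))
      (dualSolid_subset_solid F hy')).trans_eq ?_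
    rw [rootSum_apply, ← Finset.sum_filter]
    refine Finset.sum_congr ?_ fun _ _ => rfl
    ext; simp
  have hterm : ∀ i : ι, (if i ∈ G.parab then P.root' i y else 0) ≤
      (if i ∈ F.parab then P.root' i y else 0) ∧
      ((if i ∈ G.parab then P.root' i y else 0) = (if i ∈ F.parab then P.root' i y else 0) →
        i ∈ G.parab → i ∈ F.parab) := by
    intro i
    have hs : F.sgn i = SignType.sign (P.root' i y) := (congrFun (Set.mem_ofPred.mp hy) i).symm
    have hmem : i ∈ F.parab ↔ 0 ≤ P.root' i y := by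
      rw [RootCh.Facet.parab, Set.mem_ofPred, hs, Ne, sign_eq_neg_one_iff, not_lt]
    by_cases h1 : i ∈ F.parab
    · rw [if_pos h1]
      refine ⟨?_, fun _ _ => h1⟩
      split_ifs
      · exact le_rfl
      · exact hmem.mp h1
    · rw [if_neg h1]
      rw [hmem, not_le] at h1
      refine ⟨?_, fun he hG' => ?_⟩
      · split_ifs <;> linarith
      · rw [if_pos hG'] at he; linarith
  have hsum := Finset.sum_le_sum (s := Finset.univ) fun i _ => (hterm i).1
  refine ⟨hyF ▸ hG.trans hsum, fun heq => le_iff_parab_subset.mpr fun i hi => (hterm i).2 ?_ hi⟩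
  exact (Finset.sum_eq_sum_iff_of_le fun i _ => (hterm i).1).mp
    (le_antisymm hsum (by rw [← hyF, ← heq]; exact hG)) i (Finset.mem_univ i)

/-- The positive roots vanishing on the corners in `J` but not on the corner at `j`. -/
def gap (b : P.Base) (J : Finset b.support) (j : b.support) : Set ι :=
  {k | b.IsPos k ∧ coef b k j ≠ 0 ∧ ∀ l ∈ J, coef b k l = 0}

theorem coroot'_rootSum_gap {J : Finset b.support} {i j : b.support} (hij : i ≠ j) (hi : i ∉ J) :
    P.coroot' (i : ι) (rootSum P (gap b J j)) = 0 := by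
  classical
  refine coroot'_rootSum_eq_zero (i : ι) fun k hk => ?_
  obtain ⟨hpos, hj, hJ⟩ := hk
  refine ⟨hpos.reflectionPerm i.2 ?_, by rwa [coef_reflectionPerm_of_ne hij], fun l hl => ?_⟩
  · rintro rfl
    rw [coef_simple, if_neg hij] at hj
    exact hj rfl
  · have hil : i ≠ l := fun e => hi (e ▸ hl)
    rw [coef_reflectionPerm_of_ne hil]
    exact hJ l hl

theorem posPart_insert [DecidableEq b.support] {G : RootCh.Facet P} (hbF : b ∈ F.cham)
    (hbG : b ∈ G.cham) {j : b.support} (h : supp F b = insert j (supp G b)) :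
    F.posPart = G.posPart ∪ gap b (supp G b) j ∧ Disjoint G.posPart (gap b (supp G b) j) := by
  constructor
  · ext k
    rw [Set.mem_union, mem_posPart_iff hbF, mem_posPart_iff hbG, h]
    constructor
    · rintro ⟨hk, l, hl, hne⟩
      by_cases hG : ∃ l ∈ supp G b, coef b k l ≠ 0
      · exact Or.inl ⟨hk, hG⟩
      · push Not at hG
        rcases Finset.mem_insert.mp hl with rfl | hl'
        · exact Or.inr ⟨hk, hne, hG⟩
        · exact absurd (hG l hl') hne
    · rintro (⟨hk, l, hl, hne⟩ | ⟨hk, hne, -⟩)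
      · exact ⟨hk, l, Finset.mem_insert_of_mem hl, hne⟩
      · exact ⟨hk, j, Finset.mem_insert_self _ _, hne⟩
  · rw [Set.disjoint_left]
    intro k hk hk'
    obtain ⟨-, l, hl, hne⟩ := (mem_posPart_iff hbG).mp hk
    exact hne (hk'.2.2 l hl)

theorem isSpecial_of_maximal {d : P.Base → N} (hd : RootCh.IsCCS d) (hb : b ∈ F.cham)
    (hmax : ∀ (G : RootCh.Facet P) (c : P.Base), c ∈ G.cham → G.deg d c ≤ F.deg d b)
    (hmaxl : ∀ (G : RootCh.Facet P) (c : P.Base), c ∈ G.cham → G.deg d c = F.deg d b → F ≤ G →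
      G = F) :
    RootCh.IsSpecial d F := by
  classical
  obtain ⟨y, hyL⟩ := exists_yLocus hd F
  have hy : y ∈ RootCh.yLocus d F := hyL ▸ Set.mem_singleton y
  obtain ⟨hy1, hy2⟩ := hy
  simp only [Set.mem_iInter] at hy1
  refine ⟨y, (mem_dualCarrier_iff hb).mpr fun j => ⟨fun hj => ?_,
    root'_eq_zero_of_mem_span hb hy2⟩, ?_⟩
  · by_contra! hle
    obtain ⟨G, hbG, hGs⟩ := exists_facet b ((supp F b).erase j)
    have hins : supp F b = insert j (supp G b) := by rw [hGs, Finset.insert_erase hj]
    obtain ⟨hu, hdisj⟩ := posPart_insert hb hbG hins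
    have hT : rootSum P (gap b (supp G b) j) ∈ Submodule.span R F.corners := by
      rw [corners_eq hb]
      refine mem_span_fundWeight fun i hi => ?_
      rw [hins, Finset.mem_insert, not_or] at hi
      exact coroot'_rootSum_gap hi.1 hi.2
    have hT0 : P.toLinearMap (rootSum P (gap b (supp G b) j)) (d b) ≤ 0 := by
      rw [← pairing_span_eq_of_mem_hyper hb hy1 hT, rootSum_apply]
      refine Finset.sum_nonpos fun k hk => ?_
      rw [Set.Finite.mem_toFinset] at hk
      rw [root'_eq_sum_supp hb hy2 k, hins, Finset.sum_insert (by simp [hGs]),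
        Finset.sum_eq_zero (fun l hl => by rw [hk.2.2 l hl, zero_mul]), add_zero]
      exact mul_nonpos_of_nonneg_of_nonpos (coef_nonneg b hk.1 j) hle
    have hdeg : F.deg d b = G.deg d b + P.toLinearMap (rootSum P (gap b (supp G b) j)) (d b) := by
      rw [deg_eq, deg_eq, rootSum_parab, rootSum_parab, hu, rootSum_union hdisj, map_add,
        LinearMap.add_apply]
    have hFG : F ≤ G := by
      rw [le_iff_parab_subset]
      intro i hi hneg
      have h1 : P.reflectionPerm i i ∈ G.posPart := by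
        show G.sgn _ = 1
        rw [sgn_neg, hneg]; rfl
      have h2 : F.sgn (P.reflectionPerm i i) = 1 := (hu ▸ Set.mem_union_left _ h1 : _ ∈ F.posPart)
      rw [sgn_neg, neg_eq_iff_eq_neg] at h2
      exact hi h2
    have := hmaxl G b hbG (le_antisymm (hmax G b hbG) (by linarith)) hFG
    rw [this] at hGs
    exact Finset.notMem_erase j (supp F b) (hGs ▸ hj)
  · rw [dualSolid_eq hd]
    refine ⟨Set.mem_iInter₂.mpr hy1, Set.mem_iInter₂.mpr fun m hm c hmc => ?_⟩
    by_contra! hlt
    obtain ⟨b', hb', hmb'⟩ := corners'_nonneg hm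
    rw [hd.corner_eq c b' m hmc hmb'] at hlt
    rw [baseCorners_eq] at hmb'
    obtain ⟨k, rfl⟩ := hmb'
    have hk : k ∉ supp F b' := fun hk => hlt.ne (by
      have hmem : RootCh.fundWeight b' k ∈ F.corners := by rw [corners_eq hb']; exact ⟨k, hk, rfl⟩
      exact hy1 _ hmem b' (mem_baseCorners_of_mem_cham hb' hmem))
    obtain ⟨G, hbG, hGs⟩ := exists_facet b' (insert k (supp F b'))
    obtain ⟨hu, hdisj⟩ := posPart_insert hbG hb' hGs
    set u := rootSum P (gap b' (supp F b') k) with hudef
    have hdeg : G.deg d b' = F.deg d b' + P.toLinearMap u (d b') := by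
      rw [deg_eq, deg_eq, rootSum_parab, rootSum_parab, hu, rootSum_union hdisj, map_add,
        LinearMap.add_apply]
    have hkmem : (k : ι) ∈ gap b' (supp F b') k := by
      refine ⟨Base.isPos_of_mem_support k.2, ?_, fun l hl => ?_⟩
      · rw [coef_simple, if_pos rfl]; exact one_ne_zero
      · rw [coef_simple, if_neg]; rintro rfl; exact hk hl
    have hy0 : P.toLinearMap u y = 0 := by
      rw [hudef, rootSum_apply]
      refine Finset.sum_eq_zero fun l hl => ?_
      rw [Set.Finite.mem_toFinset] at hl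
      rw [root'_eq_sum_supp hb' hy2 l]
      exact Finset.sum_eq_zero fun q hq => by rw [hl.2.2 q hq, zero_mul]
    have hupos : 0 < P.coroot' (k : ι) u := by
      have hcoef : 0 < ∑ l ∈ (gap b' (supp F b') k).toFinite.toFinset, coef b' l k :=
        Finset.sum_pos (fun l hl => by
          rw [Set.Finite.mem_toFinset] at hl
          exact (coef_nonneg b' hl.1 k).lt_of_ne (Ne.symm hl.2.1))
          ⟨(k : ι), by rw [Set.Finite.mem_toFinset]; exact hkmem⟩
      have hne : u ≠ 0 := fun e => by
        have h := rootSum_apply (P := P) (gap b' (supp F b') k) (RootCh.fundCoweight b' k)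
        rw [← hudef, e, map_zero, LinearMap.zero_apply] at h
        exact hcoef.ne h
      have h1 := pol_pos (P := P) hne
      rw [hudef, rootSum_apply, ← hudef] at h1
      rw [Finset.sum_congr rfl (g := fun l => coef b' l k * P.root' (k : ι) (pol P u)) fun l hl => ?_,
        ← Finset.sum_mul] at h1
      · exact (root'_pol_pos_iff (k : ι) u).mp (pos_of_mul_pos_right h1 hcoef.le)
      rw [Set.Finite.mem_toFinset] at hl
      rw [root'_eq_sum b' l, Finset.sum_eq_single k (fun q _ hq => ?_) (by simp)]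
      by_cases hqF : q ∈ supp F b'
      · rw [hl.2.2 q hqF, zero_mul]
      · rw [(root'_pol_eq_zero_iff (q : ι) u).mpr (coroot'_rootSum_gap hq hqF), mul_zero]
    have hexp : P.toLinearMap u (d b') =
        P.coroot' (k : ι) u * (P.toLinearMap (RootCh.fundWeight b' k) (d b') -
          P.toLinearMap (RootCh.fundWeight b' k) y) := by
      have h : P.toLinearMap u (d b') - P.toLinearMap u y =
          P.coroot' (k : ι) u * (P.toLinearMap (RootCh.fundWeight b' k) (d b') -
            P.toLinearMap (RootCh.fundWeight b' k) y) := by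
        conv_lhs => rw [← sum_fundWeight b' u]
        simp only [map_sum, map_smul, LinearMap.sum_apply, LinearMap.smul_apply, smul_eq_mul,
          ← Finset.sum_sub_distrib, ← mul_sub]
        refine Finset.sum_eq_single k (fun q _ hq => ?_) (by simp)
        by_cases hqF : q ∈ supp F b'
        · have hqm : RootCh.fundWeight b' q ∈ F.corners := by
            rw [corners_eq hb']; exact ⟨q, hqF, rfl⟩
          rw [hy1 _ hqm b' (mem_baseCorners_of_mem_cham hb' hqm), sub_self, mul_zero]
        · rw [coroot'_rootSum_gap hq hqF, zero_mul]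
      rwa [hy0, sub_zero] at h
    have h2 := hmax G b' hbG
    have h3 : F.deg d b' = F.deg d b := by
      rw [deg_eq, deg_eq]
      exact pairing_span_corners_eq hd hb' hb (rootSum_parab_mem_span F)
    rw [hdeg, h3, hexp] at h2
    have := mul_pos hupos (sub_pos.mpr hlt)
    linarith

theorem finite_facet (P : RootPairing ι R M N) : Finite (RootCh.Facet P) :=
  Finite.of_injective (fun F : RootCh.Facet P => F.sgn) fun _ _ h => RootCh.Facet.ext h

theorem existsUnique_isSpecial {d : P.Base → N} (hd : RootCh.IsCCS d) :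
    ∃! F : RootCh.Facet P, RootCh.IsSpecial d F := by
  classical
  have := finite_facet P
  have := Fintype.ofFinite (RootCh.Facet P)
  choose c hc using fun F : RootCh.Facet P => cham_nonempty F
  have hind : ∀ (G : RootCh.Facet P) (c' : P.Base), c' ∈ G.cham → G.deg d c' = G.deg d (c G) := by
    intro G c' hc'
    rw [deg_eq, deg_eq]
    exact pairing_span_corners_eq hd hc' (hc G) (rootSum_parab_mem_span G)
  obtain ⟨F₀, -, hF₀⟩ := Finset.exists_max_image Finset.univ (fun G => G.deg d (c G))
    ⟨RootCh.Facet.origin P, Finset.mem_univ _⟩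
  let S := Finset.univ.filter fun G : RootCh.Facet P => G.deg d (c G) = F₀.deg d (c F₀)
  obtain ⟨F, hF⟩ := S.exists_maximal ⟨F₀, by simp [S]⟩
  have hFS : F.deg d (c F) = F₀.deg d (c F₀) := (Finset.mem_filter.mp hF.prop).2
  have hs : RootCh.IsSpecial d F := isSpecial_of_maximal hd (hc F)
    (fun G c' hc' => by rw [hind G c' hc', hFS]; exact hF₀ G (Finset.mem_univ _))
    (fun G c' hc' he hFG => le_antisymm (hF.2 (Finset.mem_filter.mpr ⟨Finset.mem_univ _,
      by rw [← hind G c' hc', he, hFS]⟩) hFG) hFG)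
  refine ⟨F, hs, fun G hG => ?_⟩
  obtain ⟨h1, h1'⟩ := deg_le_of_isSpecial hd hs (hc F) G (c G) (hc G)
  obtain ⟨h2, h2'⟩ := deg_le_of_isSpecial hd hG (hc G) F (c F) (hc F)
  exact le_antisymm (h1' (le_antisymm h1 h2)) (h2' (le_antisymm h2 h1))

/-! ### Invariant scalar products -/

variable {B : LinearMap.BilinForm R N}

theorem B_coroot (hBs : ∀ y z : N, B y z = B z y)
    (hBi : ∀ (i : ι) (y z : N), B (P.coreflection i y) (P.coreflection i z) = B y z)
    (i : ι) (y : N) : 2 * B y (P.coroot i) = P.root' i y * B (P.coroot i) (P.coroot i) := by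
  have h := hBi i y (P.coroot i)
  rw [P.coreflection_apply_self, P.coreflection_apply, map_neg, map_sub, map_smul,
    LinearMap.sub_apply, LinearMap.smul_apply, smul_eq_mul] at h
  linarith

/-- The vector of `M` representing `B y₀`, in coordinates. -/
theorem exists_repr_B (hBs : ∀ y z : N, B y z = B z y) (hBp : ∀ y : N, y ≠ 0 → 0 < B y y)
    (hBi : ∀ (i : ι) (y z : N), B (P.coreflection i y) (P.coreflection i z) = B y z)
    (y : N) (F : RootCh.Facet P) (hy : y ∈ F.dualCarrier) :
    ∃ ξ ∈ F.carrier, ∀ z, P.toLinearMap ξ z = B y z := by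
  refine ⟨P.toPerfPair.symm (B y), ?_, fun z => by
    rw [P.toLinearMap.apply_symm_toPerfPair_self]⟩
  show RootCh.sgnVec P (P.toPerfPair.symm (B y)) = F.sgn
  rw [← show RootCh.cosgnVec P y = F.sgn from hy]
  funext i
  rw [RootCh.sgnVec, RootCh.cosgnVec, coroot'_apply, P.toLinearMap.apply_symm_toPerfPair_self]
  have hne : P.coroot i ≠ 0 := P.flip.ne_zero i
  have e : B y (P.coroot i) = (B (P.coroot i) (P.coroot i) / 2) * P.root' i y := by
    have := B_coroot hBs hBi i y; linarith
  rw [e, sign_mul, sign_pos (half_pos (hBp _ hne)), one_mul]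

end Groth.Agent.RootChLib
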