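import Groth.Agent.RootChLib.Corners
import Groth.Prelude.Def_RootCh2

/-!
# Sums of roots attached to a facet; degrees and numerical invariants
-/

set_option autoImplicit false
set_option linter.unusedSectionVars false

universe u v w x

open RootPairing Set

namespace Groth.Agent.RootChLib

variable {ι : Type u} {R : Type v} {M : Type w} {N : Type x}
variable [Field R] [LinearOrder R] [IsStrictOrderedRing R]
variable [AddCommGroup M] [Module R M] [AddCommGroup N] [Module R N] [Finite ι]
variable {P : RootPairing ι R M N}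

/-- The sum of the roots indexed by a set. -/
noncomputable def rootSum (P : RootPairing ι R M N) (S : Set ι) : M :=
  ∑ i ∈ S.toFinite.toFinset, P.root i

theorem rootSum_apply (S : Set ι) (y : N) :
    P.toLinearMap (rootSum P S) y = ∑ i ∈ S.toFinite.toFinset, P.root' i y := by
  simp [rootSum, map_sum, root'_apply]

theorem rootSum_union {S T : Set ι} (h : Disjoint S T) :
    rootSum P (S ∪ T) = rootSum P S + rootSum P T := by
  classical
  rw [rootSum, rootSum, rootSum, ← Finset.sum_union (by
    rw [Set.Finite.disjoint_toFinset]; exact h)]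
  congr 1
  ext; simp

theorem rootSum_eq_zero_of_symm {S : Set ι} (h : ∀ k ∈ S, P.reflectionPerm k k ∈ S) :
    rootSum P S = 0 := by
  refine Finset.sum_involution (fun k _ => P.reflectionPerm k k) (fun k _ => ?_) (fun k _ _ e => ?_)
    (fun k hk => ?_) (fun k _ => RootSys.neg_neg_index k)
  · rw [RootSys.root_neg, add_neg_cancel]
  · have h1 := congrArg P.root e
    rw [RootSys.root_neg, eq_comm, eq_neg_iff_add_eq_zero, ← two_smul R,
      smul_eq_zero_iff_right two_ne_zero] at h1
    exact P.ne_zero k h1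
  · rw [Set.Finite.mem_toFinset] at hk ⊢; exact h k hk

variable [P.IsRootSystem] [P.IsCrystallographic] [P.IsReduced]
variable {F : RootCh.Facet P} {b : P.Base}

theorem deg_eq (d : P.Base → N) (F : RootCh.Facet P) (c : P.Base) :
    F.deg d c = P.toLinearMap (rootSum P F.parab) (d c) := (rootSum_apply _ _).symm

theorem numInv_eq (d : P.Base → N) (F : RootCh.Facet P) (m : M) (c : P.Base) :
    F.numInv d m c = P.toLinearMap (rootSum P (F.Psi m)) (d c) := (rootSum_apply _ _).symm

theorem rootSum_parab (F : RootCh.Facet P) :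
    rootSum P F.parab = rootSum P F.posPart := by
  have h : F.parab = F.posPart ∪ F.leviPart := by
    ext i
    simp only [RootCh.Facet.parab, RootCh.Facet.posPart, RootCh.Facet.leviPart, Set.mem_union,
      Set.mem_ofPred]
    cases F.sgn i <;> simp
  rw [h, rootSum_union, rootSum_eq_zero_of_symm (S := F.leviPart), add_zero]
  · intro k hk
    simp only [RootCh.Facet.leviPart, Set.mem_ofPred, sgn_neg] at hk ⊢
    rw [hk]; rfl
  · rw [Set.disjoint_left]
    intro i h1 h2
    simp only [RootCh.Facet.posPart, RootCh.Facet.leviPart, Set.mem_ofPred] at h1 h2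
    rw [h1] at h2; exact absurd h2 (by decide)

theorem coef_reflectionPerm (i k : ι) (l : b.support) :
    coef b (P.reflectionPerm i k) l = coef b k l - P.pairing k i * coef b i l := by
  simp only [coef, root'_apply, root_reflectionPerm, reflection_apply, map_sub, map_smul,
    LinearMap.sub_apply, LinearMap.smul_apply, smul_eq_mul, root_coroot'_eq_pairing]

theorem coef_reflectionPerm_of_ne {i l : b.support} (h : i ≠ l) (k : ι) :
    coef b (P.reflectionPerm i k) l = coef b k l := by
  classical
  rw [coef_reflectionPerm, coef_simple, if_neg h, mul_zero, sub_zero]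

theorem coroot'_rootSum_eq_zero (i : ι) {S : Set ι} (h : ∀ k ∈ S, P.reflectionPerm i k ∈ S) :
    P.coroot' i (rootSum P S) = 0 := by
  have h1 : P.reflection i (rootSum P S) = rootSum P S := by
    rw [rootSum, map_sum]
    simp only [← root_reflectionPerm]
    refine Finset.sum_nbij' (fun k => P.reflectionPerm i k) (fun k => P.reflectionPerm i k)
      ?_ ?_ (fun k _ => P.reflectionPerm_self i k) (fun k _ => P.reflectionPerm_self i k)
      (fun k _ => rfl) <;>
    · intro k hk
      rw [Set.Finite.mem_toFinset] at hk ⊢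
      exact h k hk
  rw [reflection_apply, sub_eq_self, smul_eq_zero] at h1
  exact h1.resolve_right (P.ne_zero i)

theorem coroot'_rootSum_pos (b : P.Base) (i : b.support) :
    P.coroot' i (rootSum P {k | b.IsPos k}) = 2 := by
  have hi : b.IsPos (i : ι) := Base.isPos_of_mem_support i.2
  have h : {k | b.IsPos k} = {k | b.IsPos k ∧ k ≠ i} ∪ {(i : ι)} := by
    ext k
    simp only [Set.mem_ofPred, Set.mem_union, Set.mem_singleton_iff]
    constructor
    · intro hk; tauto
    · rintro (⟨hk, -⟩ | rfl)
      exacts [hk, hi]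
  rw [h, rootSum_union (by simp), map_add, coroot'_rootSum_eq_zero, zero_add]
  · simp [rootSum]
  · rintro k ⟨hk, hne⟩
    refine ⟨hk.reflectionPerm i.2 hne, fun e => ?_⟩
    have h1 : k = P.reflectionPerm i i := by rw [← P.reflectionPerm_self (i : ι) k, e]
    exact (neg_isPos_iff b (i : ι)).mp (h1 ▸ hk) hi

theorem mem_span_fundWeight {J : Finset b.support} {σ : M}
    (h : ∀ i : b.support, i ∉ J → P.coroot' (i : ι) σ = 0) :
    σ ∈ Submodule.span R (RootCh.fundWeight b '' (J : Set b.support)) := by
  rw [← sum_fundWeight b σ]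
  refine Submodule.sum_mem _ fun l _ => ?_
  by_cases hl : l ∈ J
  · exact Submodule.smul_mem _ _ (Submodule.subset_span ⟨l, hl, rfl⟩)
  · rw [h l hl, zero_smul]; exact zero_mem _

theorem mem_posPart_iff (hb : b ∈ F.cham) {k : ι} :
    k ∈ F.posPart ↔ b.IsPos k ∧ ∃ j ∈ supp F b, coef b k j ≠ 0 := by
  constructor
  · intro hk
    have hpos : b.IsPos k := by
      by_contra hn
      have h1 : F.sgn (P.reflectionPerm k k) ≠ -1 :=
        pos_mem_parab hb ((neg_isPos_iff b k).mpr hn)
      rw [sgn_neg] at h1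
      exact h1 (by rw [show F.sgn k = 1 from hk])
    exact ⟨hpos, (sgn_eq_one_iff_of_isPos hb hpos).mp hk⟩
  · rintro ⟨hpos, h⟩
    exact (sgn_eq_one_iff_of_isPos hb hpos).mpr h

/-- The sum of the parabolic set of a facet lies in the facet. -/
theorem rootSum_parab_mem_carrier (F : RootCh.Facet P) : rootSum P F.parab ∈ F.carrier := by
  classical
  obtain ⟨b, hb⟩ := cham_nonempty F
  rw [rootSum_parab]
  refine (mem_carrier_iff hb).mpr fun i => ⟨fun hi => ?_, fun hi => ?_⟩
  · have hsplit : {k | b.IsPos k} = F.posPart ∪ {k | b.IsPos k ∧ ∀ j ∈ supp F b, coef b k j = 0} := by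
      ext k
      rw [Set.mem_union, mem_posPart_iff hb]
      constructor
      · intro hk
        by_cases h : ∃ j ∈ supp F b, coef b k j ≠ 0
        · exact Or.inl ⟨hk, h⟩
        · push Not at h; exact Or.inr ⟨hk, h⟩
      · rintro (⟨hk, -⟩ | ⟨hk, -⟩) <;> exact hk
    have h2 := coroot'_rootSum_pos b i
    rw [hsplit, rootSum_union, map_add] at h2
    swap
    · rw [Set.disjoint_left]
      intro k hk hk'
      obtain ⟨-, j, hj, hne⟩ := (mem_posPart_iff hb).mp hk
      exact hne (hk'.2 j hj)
    have h3 : P.coroot' (i : ι) (rootSum P {k | b.IsPos k ∧ ∀ j ∈ supp F b, coef b k j = 0}) ≤ 0 := by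
      rw [rootSum, map_sum]
      refine Finset.sum_nonpos fun k hk => ?_
      rw [Set.Finite.mem_toFinset] at hk
      rw [root_eq_sum b k, map_sum]
      refine Finset.sum_nonpos fun l _ => ?_
      rw [map_smul, smul_eq_mul]
      rcases eq_or_ne l i with rfl | hli
      · rw [hk.2 l hi, zero_mul]
      · refine mul_nonpos_of_nonneg_of_nonpos (coef_nonneg b hk.1 l) ?_
        rw [root_coroot'_eq_pairing, ← P.algebraMap_pairingIn ℤ, algebraMap_int_eq, eq_intCast]
        exact_mod_cast b.pairingIn_le_zero_of_ne (Subtype.coe_ne_coe.mpr hli) l.2 i.2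
    linarith
  · refine coroot'_rootSum_eq_zero (i : ι) fun k hk => ?_
    obtain ⟨hpos, j, hj, hne⟩ := (mem_posPart_iff hb).mp hk
    have hij : i ≠ j := fun e => hi (e ▸ hj)
    refine (mem_posPart_iff hb).mpr ⟨hpos.reflectionPerm i.2 ?_, j, hj, ?_⟩
    · rintro rfl
      exact hne (by rw [coef_simple, if_neg hij])
    · rwa [coef_reflectionPerm_of_ne hij]

theorem rootSum_parab_mem_span (F : RootCh.Facet P) :
    rootSum P F.parab ∈ Submodule.span R F.corners :=
  carrier_subset_span_corners F (rootSum_parab_mem_carrier F)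

theorem mem_Psi_iff (hb : b ∈ F.cham) {j : b.support} (hj : j ∈ supp F b) {k : ι} :
    k ∈ F.Psi (RootCh.fundWeight b j) ↔
      coef b k j = 1 ∧ ∀ l ∈ supp F b, l ≠ j → coef b k l = 0 := by
  constructor
  · rintro ⟨h1, h2⟩
    refine ⟨h1 _ ((corr_fundWeight_iff b j).mpr rfl), fun l hl hlj => ?_⟩
    exact h2 _ (by rw [corners_eq hb]; exact ⟨l, hl, rfl⟩) (fun e => hlj (fundWeight_injective b e)) _
      ((corr_fundWeight_iff b l).mpr rfl)
  · rintro ⟨h1, h2⟩
    refine ⟨fun x hx => ?_, fun m hm hne x hx => ?_⟩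
    · rw [(corr_fundWeight_iff b j).mp hx]; exact h1
    · rw [corners_eq hb] at hm
      obtain ⟨l, hl, rfl⟩ := hm
      rw [(corr_fundWeight_iff b l).mp hx]
      exact h2 l hl fun e => hne (e ▸ rfl)

theorem rootSum_Psi_mem_span {m : M} (hm : m ∈ F.corners) :
    rootSum P (F.Psi m) ∈ Submodule.span R F.corners := by
  classical
  obtain ⟨b, hb⟩ := cham_nonempty F
  rw [corners_eq hb] at hm ⊢
  obtain ⟨j, hj, rfl⟩ := hm
  refine mem_span_fundWeight fun i hi => coroot'_rootSum_eq_zero (i : ι) fun k hk => ?_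
  rw [mem_Psi_iff hb hj] at hk ⊢
  have hij : i ≠ j := fun e => hi (e ▸ hj)
  refine ⟨by rw [coef_reflectionPerm_of_ne hij]; exact hk.1, fun l hl hlj => ?_⟩
  have hil : i ≠ l := fun e => hi (e ▸ hl)
  rw [coef_reflectionPerm_of_ne hil]
  exact hk.2 l hl hlj

theorem simple_mem_Psi (hb : b ∈ F.cham) {j : b.support} (hj : j ∈ supp F b) :
    (j : ι) ∈ F.Psi (RootCh.fundWeight b j) := by
  classical
  rw [mem_Psi_iff hb hj]
  refine ⟨RootCh.root'_fundCoweight_self b j, fun l _ hlj => ?_⟩
  rw [coef_simple, if_neg hlj.symm]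

end Groth.Agent.RootChLib
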